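import Mathlib

/-!
# Arithmetic of `q` modulo `±1`
-/

set_option autoImplicit false

namespace CfsgLib.PrimeGraphBC

/-- `q ^ d ≡ ±1` modulo `N`. -/
def Sgn (q N d : ℕ) : Prop := ((q : ZMod N) ^ d = 1) ∨ ((q : ZMod N) ^ d = -1)

/-- The order of `q` modulo `r` up to sign. -/
noncomputable def eta (q r : ℕ) : ℕ := orderOf ((q : ZMod r) ^ 2)

theorem sgn_of_dvd {q M N d : ℕ} (h : M ∣ N) (hs : Sgn q N d) : Sgn q M d := by
  rcases hs with hs | hs
  · left
    have := congrArg (ZMod.castHom h (ZMod M)) hs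
    simpa only [map_pow, map_natCast, map_one, map_neg] using this
  · right
    have := congrArg (ZMod.castHom h (ZMod M)) hs
    simpa only [map_pow, map_natCast, map_one, map_neg] using this

section Prime

variable {q r : ℕ} [Fact r.Prime]

theorem cast_ne_zero (h : ¬ r ∣ q) : (q : ZMod r) ≠ 0 :=
  fun h0 => h ((ZMod.natCast_eq_zero_iff q r).1 h0)

theorem sgn_iff_eta_dvd (d : ℕ) : Sgn q r d ↔ eta q r ∣ d := by
  rw [eta, orderOf_dvd_iff_pow_eq_one, ← pow_mul, mul_comm, pow_mul, sq_eq_one_iff]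
  rfl

theorem eta_pos (h : ¬ r ∣ q) : 0 < eta q r :=
  orderOf_pos_iff.2 <| isOfFinOrder_iff_pow_eq_one.2
    ⟨r - 1, Nat.sub_pos_of_lt (Fact.out : r.Prime).one_lt,
      ZMod.pow_card_sub_one_eq_one (pow_ne_zero _ (cast_ne_zero h))⟩

theorem sgn_eta : Sgn q r (eta q r) := (sgn_iff_eta_dvd _).2 dvd_rfl

theorem not_sgn_of_lt {d : ℕ} (hd : 0 < d) (h : d < eta q r) : ¬ Sgn q r d := fun hs =>
  Nat.not_le.2 h (Nat.le_of_dvd hd ((sgn_iff_eta_dvd d).1 hs))

/-- `η(k)` is the order of `q²`. -/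
theorem eta_eq {k ηk : ℕ} (h : ¬ r ∣ q) (hk : k = orderOf (q : ZMod r))
    (hηk : (Odd k ∧ ηk = k) ∨ (Even k ∧ 2 * ηk = k)) : eta q r = ηk := by
  have hfin : IsOfFinOrder (q : ZMod r) :=
    isOfFinOrder_iff_pow_eq_one.2 ⟨r - 1, Nat.sub_pos_of_lt (Fact.out : r.Prime).one_lt,
      ZMod.pow_card_sub_one_eq_one (cast_ne_zero h)⟩
  rw [eta, hfin.orderOf_pow, ← hk]
  rcases hηk with ⟨ho, he⟩ | ⟨he, h2⟩
  · rw [Nat.Coprime.gcd_eq_one (Nat.coprime_two_right.2 ho), Nat.div_one, he]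
  · obtain ⟨m, rfl⟩ := he
    rw [Nat.gcd_eq_right ⟨m, by ring⟩]
    omega

theorem dvd_order_iff (h : ¬ r ∣ q) (n : ℕ) :
    r ∣ ∏ i ∈ Finset.range n, (q ^ (2 * (i + 1)) - 1) ↔ eta q r ≤ n := by
  have hq : 1 ≤ q := Nat.one_le_iff_ne_zero.2 fun h0 => h (h0 ▸ dvd_zero r)
  have key : ∀ i, r ∣ q ^ (2 * i) - 1 ↔ eta q r ∣ i := fun i => by
    rw [← ZMod.natCast_eq_zero_iff, Nat.cast_sub (Nat.one_le_pow _ _ hq), Nat.cast_pow, Nat.cast_one,
      sub_eq_zero, pow_mul, eta, orderOf_dvd_iff_pow_eq_one]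
  constructor
  · intro hd
    obtain ⟨i, hi, hdi⟩ := (Nat.Prime.prime (Fact.out : r.Prime)).exists_mem_finset_dvd hd
    exact (Nat.le_of_dvd (Nat.succ_pos i) ((key (i + 1)).1 hdi)).trans (Finset.mem_range.1 hi)
  · intro hle
    refine dvd_trans ((key (eta q r)).2 dvd_rfl) ?_
    have he := eta_pos h
    refine dvd_trans ?_ (Finset.dvd_prod_of_mem _ (Finset.mem_range.2 (show eta q r - 1 < n by omega)))
    rw [Nat.sub_add_cancel he]

end Prime

section Pair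

variable {q r s : ℕ}

/-- `q ^ b` is the same sign modulo both numbers. -/
def SameSign (q r s b : ℕ) : Prop :=
  ((q : ZMod r) ^ b = 1 ∧ (q : ZMod s) ^ b = 1) ∨ ((q : ZMod r) ^ b = -1 ∧ (q : ZMod s) ^ b = -1)

theorem sgn_mul_iff (hc : r.Coprime s) (d : ℕ) : Sgn q (r * s) d ↔ SameSign q r s d := by
  let e := ZMod.chineseRemainder hc
  have h1 : ∀ z : ZMod (r * s),
      (q : ZMod (r * s)) ^ d = z ↔ ((q : ZMod r) ^ d, (q : ZMod s) ^ d) = e z := fun z => by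
    rw [← e.injective.eq_iff, map_pow, map_natCast]
    rfl
  rw [Sgn, SameSign, h1, h1, map_one, map_neg, map_one, Prod.ext_iff, Prod.ext_iff]
  rfl

/-- No small signed power of `q` modulo `r * s`. -/
theorem not_sgn_mul [Fact s.Prime] (hc : r.Coprime s) (hC : ¬ SameSign q r s (eta q s)) {d : ℕ}
    (hd : 0 < d) (hlt : d < 2 * eta q s) : ¬ Sgn q (r * s) d := by
  intro hs
  obtain ⟨c, hc'⟩ := (sgn_iff_eta_dvd d).1 (sgn_of_dvd (dvd_mul_left s r) hs)
  obtain rfl : c = 1 := by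
    rcases c with _ | _ | c
    · omega
    · rfl
    · exfalso
      have : eta q s * 2 ≤ eta q s * (c + 1 + 1) := Nat.mul_le_mul_left _ (by omega)
      omega
  rw [mul_one] at hc'
  exact hC ((sgn_mul_iff hc _).1 (hc' ▸ hs))

/-- The condition "`l / k` is an odd integer". -/
theorem sameSign_iff [Fact r.Prime] [Fact s.Prime] (hr2 : r ≠ 2) (hs2 : s ≠ 2) (hs : ¬ s ∣ q)
    {k l ηl : ℕ} (hk : k = orderOf (q : ZMod r)) (hl : l = orderOf (q : ZMod s))
    (hηl : (Odd l ∧ ηl = l) ∨ (Even l ∧ 2 * ηl = l)) :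
    SameSign q r s ηl ↔ ∃ t : ℕ, Odd t ∧ l = k * t := by
  have ne_r : (1 : ZMod r) ≠ -1 := by
    haveI : Fact (2 < r) := ⟨by have := (Fact.out : r.Prime).two_le; omega⟩
    exact fun h => ZMod.neg_one_ne_one h.symm
  have ne_s : (1 : ZMod s) ≠ -1 := by
    haveI : Fact (2 < s) := ⟨by have := (Fact.out : s.Prime).two_le; omega⟩
    exact fun h => ZMod.neg_one_ne_one h.symm
  have hs1 : (q : ZMod s) ^ l = 1 := hl ▸ pow_orderOf_eq_one _
  have hl0 : 0 < l := hl ▸ orderOf_pos_iff.2 (isOfFinOrder_iff_pow_eq_one.2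
    ⟨s - 1, Nat.sub_pos_of_lt (Fact.out : s.Prime).one_lt,
      ZMod.pow_card_sub_one_eq_one (cast_ne_zero hs)⟩)
  have hdvd : ∀ d, (q : ZMod r) ^ d = 1 ↔ k ∣ d := fun d => by
    rw [hk, orderOf_dvd_iff_pow_eq_one]
  rcases hηl with ⟨ho, rfl⟩ | ⟨-, h2⟩
  · constructor
    · rintro (⟨h1, -⟩ | ⟨-, h1⟩)
      · obtain ⟨t, ht⟩ := (hdvd _).1 h1
        exact ⟨t, (Nat.odd_mul.1 (ht ▸ ho)).2, ht⟩
      · exact absurd (hs1.symm.trans h1) ne_s
    · rintro ⟨t, -, ht⟩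
      exact Or.inl ⟨(hdvd _).2 (Dvd.intro t ht.symm), hs1⟩
  · have hsm : (q : ZMod s) ^ ηl = -1 := by
      rcases sq_eq_one_iff.1 (show ((q : ZMod s) ^ ηl) ^ 2 = 1 by rw [← pow_mul, mul_comm, h2, hs1])
        with h | h
      · have := Nat.le_of_dvd (by omega) (hl ▸ orderOf_dvd_of_pow_eq_one h : l ∣ ηl)
        omega
      · exact h
    constructor
    · rintro (⟨-, h1⟩ | ⟨h1, -⟩)
      · exact absurd (h1.symm.trans hsm) ne_s
      · obtain ⟨t, ht⟩ := (hdvd l).1 (by rw [← h2, mul_comm, pow_mul, h1, neg_one_sq])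
        refine ⟨t, ?_, ht⟩
        rw [← Nat.not_even_iff_odd]
        rintro ⟨u, rfl⟩
        refine ne_r ?_
        rw [← h1, eq_comm, hdvd]
        refine ⟨u, ?_⟩
        rw [Nat.mul_add] at ht
        omega
    · rintro ⟨t, hto, ht⟩
      refine Or.inr ⟨?_, hsm⟩
      have hk2 : Even k := by
        rcases Nat.even_mul.1 (ht ▸ ⟨ηl, by omega⟩ : Even (k * t)) with h | h
        · exact h
        · exact absurd h (Nat.not_even_iff_odd.2 hto)
      obtain ⟨k', hk'⟩ := hk2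
      have hη : ηl = k' * t := by
        rw [hk', Nat.add_mul] at ht
        omega
      have hk'pos : 0 < k' := Nat.pos_of_ne_zero fun h0 => by subst h0; simp at hη; omega
      rcases sq_eq_one_iff.1 (show ((q : ZMod r) ^ k') ^ 2 = 1 by
        rw [← pow_mul, (hdvd _).2 ⟨1, by omega⟩]) with h | h
      · have := Nat.le_of_dvd hk'pos ((hdvd k').1 h)
        omega
      · rw [hη, pow_mul, h, hto.neg_one_pow]

end Pair

end CfsgLib.PrimeGraphBC
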