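import Mathlib
import Cfsg.Agent.Isospectral57.Roots
import Cfsg.Agent.PrimeGraphBC.Arith

/-!
# Eigenvalue orbits of isometries of bilinear forms over finite fields
-/

set_option autoImplicit false

namespace CfsgLib.PrimeGraphBC

open Matrix Polynomial

variable {F : Type*} [Field F] {ι : Type*} [Fintype ι] [DecidableEq ι]
  (K : Type*) [Field K] [IsAlgClosed K] [Algebra F K]

/-- The eigenvalues of a matrix in `K`. -/
noncomputable def rootsK (G : Matrix ι ι F) : Multiset K :=
  (G.charpoly.map (algebraMap F K)).roots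

theorem card_rootsK (G : Matrix ι ι F) : Multiset.card (rootsK K G) = Fintype.card ι := by
  rw [rootsK, ← Polynomial.Splits.natDegree_eq_card_roots (IsAlgClosed.splits _), natDegree_map,
    charpoly_natDegree_eq_dim]

theorem exists_eigen {G : Matrix ι ι F} {r : K} (hr : r ∈ rootsK K G) :
    ∃ v : ι → K, v ≠ 0 ∧ G.map (algebraMap F K) *ᵥ v = r • v := by
  have h : IsRoot (G.map (algebraMap F K)).charpoly r := by
    rw [charpoly_map]
    exact isRoot_of_mem_roots hr
  rw [IsRoot, Matrix.eval_charpoly, ← exists_mulVec_eq_zero_iff] at h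
  obtain ⟨v, hv, h⟩ := h
  refine ⟨v, hv, ?_⟩
  rw [sub_mulVec, sub_eq_zero] at h
  rw [← h]
  ext i
  simp [Matrix.mulVec_diagonal]

theorem root_pow {G : Matrix ι ι F} {N : ℕ} (hN : G ^ N = 1) {r : K} (hr : r ∈ rootsK K G) :
    r ^ N = 1 := by
  obtain ⟨v, hv, h⟩ := exists_eigen K hr
  have key : ∀ m, (G.map (algebraMap F K)) ^ m *ᵥ v = r ^ m • v := by
    intro m
    induction m with
    | zero => simp
    | succ m ih => rw [pow_succ, ← mulVec_mulVec, h, mulVec_smul, ih, smul_smul, ← pow_succ']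
  have := key N
  rw [show (G.map (algebraMap F K)) ^ N = 1 by
    rw [show G.map (algebraMap F K) = (algebraMap F K).mapMatrix G from rfl, ← map_pow, hN, map_one],
    one_mulVec] at this
  obtain ⟨i, hi⟩ := Function.ne_iff.1 hv
  have hi' := congrFun this i
  simp only [Pi.smul_apply, smul_eq_mul] at hi'
  exact mul_right_cancel₀ hi (by rw [← hi', one_mul])

theorem pow_eq_one_of_roots {p : ℕ} [Fact p.Prime] [CharP F p] [Nonempty ι] {G : Matrix ι ι F}
    {N k : ℕ} (hN : G ^ N = 1) (hp : ¬ p ∣ N) (h : ∀ r ∈ rootsK K G, r ^ k = 1) : G ^ k = 1 := by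
  classical
  haveI : CharP K p := charP_of_injective_algebraMap (algebraMap F K).injective p
  have hroot : ∀ r ∈ (G.map (algebraMap F K)).charpoly.roots, r ^ k = 1 := by
    rw [charpoly_map]
    exact h
  have hm : ∀ r, (G.map (algebraMap F K)).charpoly.rootMultiplicity r ≤ Fintype.card ι := fun r => by
    rw [← count_roots]
    refine (Multiset.count_le_card _ _).trans ?_
    rw [charpoly_map]
    exact (card_rootsK K G).le
  obtain ⟨e, he⟩ : ∃ e, Fintype.card ι ≤ p ^ e :=
    ⟨Fintype.card ι, (Nat.lt_pow_self (Fact.out : p.Prime).one_lt).le⟩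
  have h1 := Roots57.pow_eq_scalar (p := p) (G.map (algebraMap F K)) hroot hm he
  rw [one_pow, one_smul, show G.map (algebraMap F K) = (algebraMap F K).mapMatrix G from rfl,
    ← map_pow] at h1
  have h2 : G ^ (k * p ^ e) = 1 :=
    Matrix.map_injective (algebraMap F K).injective (h1.trans (Matrix.map_one _ (map_zero _) (map_one _)).symm)
  have hcop : Nat.Coprime N (p ^ e) :=
    (((Fact.out : p.Prime).coprime_iff_not_dvd.2 hp).symm).pow_right e
  refine orderOf_dvd_iff_pow_eq_one.1 ?_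
  exact ((hcop.coprime_dvd_left (orderOf_dvd_of_pow_eq_one hN))).dvd_of_dvd_mul_right
    (orderOf_dvd_of_pow_eq_one h2)

/-- An element of prime order has an eigenvalue of that order. -/
theorem exists_root_prime {p : ℕ} [Fact p.Prime] [CharP F p] [Nonempty ι] {G : Matrix ι ι F} {r : ℕ}
    (hr : r.Prime) (hrp : r ≠ p) (ho : orderOf G = r) : ∃ lam ∈ rootsK K G, orderOf lam = r := by
  by_contra hcon
  push Not at hcon
  have hr' : G ^ r = 1 := ho ▸ pow_orderOf_eq_one G
  have hp' : ¬ p ∣ r := fun hd => hrp ((Nat.prime_dvd_prime_iff_eq Fact.out hr).1 hd).symm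
  have h1 : ∀ lam ∈ rootsK K G, lam ^ 1 = 1 := fun lam hl => by
    rcases (Nat.dvd_prime hr).1 (orderOf_dvd_of_pow_eq_one (root_pow K hr' hl)) with h | h
    · rw [pow_one, ← orderOf_eq_one_iff, h]
    · exact absurd h (hcon lam hl)
  have := pow_eq_one_of_roots K hr' hp' h1
  rw [pow_one] at this
  rw [this, orderOf_one] at ho
  exact hr.one_lt.ne ho

/-- An element of order `r * s` has an eigenvalue of this order, or ones of orders `r` and `s`. -/
theorem exists_root_mul {p : ℕ} [Fact p.Prime] [CharP F p] [Nonempty ι] {G : Matrix ι ι F} {r s : ℕ}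
    (hr : r.Prime) (hs : s.Prime) (hrp : r ≠ p) (hsp : s ≠ p) (ho : orderOf G = r * s) :
    (∃ lam ∈ rootsK K G, orderOf lam = r * s) ∨
      ((∃ lam ∈ rootsK K G, orderOf lam = r) ∧ ∃ mu ∈ rootsK K G, orderOf mu = s) := by
  have hG : G ^ (r * s) = 1 := ho ▸ pow_orderOf_eq_one G
  have hp' : ¬ p ∣ r * s := fun hd => by
    rcases (Fact.out : p.Prime).dvd_mul.1 hd with hd | hd
    · exact hrp ((Nat.prime_dvd_prime_iff_eq Fact.out hr).1 hd).symm
    · exact hsp ((Nat.prime_dvd_prime_iff_eq Fact.out hs).1 hd).symm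
  have main : ∀ {a b : ℕ}, a.Prime → b.Prime → a * b = r * s →
      (∃ lam ∈ rootsK K G, orderOf lam = r * s) ∨ ∃ lam ∈ rootsK K G, orderOf lam = a := by
    intro a b ha hb hab
    by_contra hcon
    push Not at hcon
    have hall : ∀ lam ∈ rootsK K G, lam ^ b = 1 := fun lam hl => by
      refine orderOf_dvd_iff_pow_eq_one.1 ?_
      have hd : orderOf lam ∣ a * b := hab ▸ orderOf_dvd_of_pow_eq_one (root_pow K hG hl)
      obtain ⟨x, y, hx, hy, hxy⟩ := Nat.dvd_mul.1 hd
      rcases (Nat.dvd_prime ha).1 hx with h1 | h1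
      · rw [h1, one_mul] at hxy
        exact hxy ▸ hy
      · rcases (Nat.dvd_prime hb).1 hy with h2 | h2
        · exact absurd (by rw [h1, h2, mul_one] at hxy; exact hxy.symm) (hcon.2 lam hl)
        · exact absurd (by rw [h1, h2, hab] at hxy; exact hxy.symm) (hcon.1 lam hl)
    have := orderOf_dvd_of_pow_eq_one (pow_eq_one_of_roots K hG hp' hall)
    rw [ho, ← hab] at this
    have := Nat.le_of_dvd hb.pos this
    have := ha.two_le
    nlinarith [hb.pos]
  rcases main hr hs rfl with h | h1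
  · exact Or.inl h
  rcases main hs hr (mul_comm s r) with h | h2
  · exact Or.inl h
  exact Or.inr ⟨h1, h2⟩

theorem zpow_eq_iff {L : Type*} [Field L] {lam : L} (h : lam ≠ 0) {N : ℕ} (hN : orderOf lam = N)
    (z w : ℤ) : lam ^ z = lam ^ w ↔ (z : ZMod N) = w := by
  have hu : orderOf (Units.mk0 lam h) = N := by rw [← orderOf_units, Units.val_mk0, hN]
  have h1 : lam ^ z = lam ^ w ↔ Units.mk0 lam h ^ z = Units.mk0 lam h ^ w := by
    rw [Units.ext_iff, Units.val_zpow_eq_zpow_val, Units.val_zpow_eq_zpow_val]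
    rfl
  rw [h1, ← orderOf_dvd_sub_iff_zpow_eq_zpow, hu, ← ZMod.intCast_zmod_eq_zero_iff_dvd, Int.cast_sub,
    sub_eq_zero]

/-- The exponent `± q ^ j`. -/
def expo (q : ℕ) (x : Bool × ℕ) : ℤ := (cond x.1 1 (-1)) * (q : ℤ) ^ x.2

theorem expo_succ (q : ℕ) (x : Bool × ℕ) : expo q x * q = expo q (x.1, x.2 + 1) := by
  simp only [expo, pow_succ, mul_assoc]

theorem expo_neg (q : ℕ) (x : Bool × ℕ) : - expo q x = expo q (!x.1, x.2) := by
  rcases x with ⟨_ | _, j⟩ <;> simp [expo]

theorem zpow_expo_mem {S : Finset K} {q : ℕ} (hq : ∀ x ∈ S, x ^ q ∈ S) (hi : ∀ x ∈ S, x⁻¹ ∈ S)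
    {lam : K} (hl : lam ∈ S) : ∀ x : Bool × ℕ, lam ^ expo q x ∈ S := by
  rintro ⟨b, j⟩
  induction j with
  | zero =>
    cases b
    · simpa [expo] using hi _ hl
    · simpa [expo] using hl
  | succ j ih =>
    rw [← expo_succ q (b, j), _root_.zpow_mul, zpow_natCast]
    exact hq _ ih

theorem expo_cast_inj {q N A : ℕ} (hN : 2 < N) (hc : q.Coprime N)
    (hA : ∀ d, 0 < d → d < A → ¬ Sgn q N d) {x y : Bool × ℕ} (hx : x.2 < A) (hy : y.2 < A)
    (h : ((expo q x : ℤ) : ZMod N) = expo q y) : x = y := by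
  wlog hle : x.2 ≤ y.2
  · exact (this hN hc hA hy hx h.symm (le_of_not_ge hle)).symm
  haveI : Fact (2 < N) := ⟨hN⟩
  obtain ⟨d, hd⟩ := Nat.exists_eq_add_of_le hle
  have hu : IsUnit ((q : ZMod N) ^ x.2) := ((ZMod.isUnit_iff_coprime q N).2 hc).pow _
  simp only [expo, Int.cast_mul, Int.cast_pow, Int.cast_natCast, hd, pow_add] at h
  rw [mul_comm ((q : ZMod N) ^ x.2), ← mul_assoc] at h
  have h' := hu.mul_right_cancel h
  obtain ⟨b, i⟩ := x
  obtain ⟨c, j⟩ := y
  have hd0 : d = 0 := by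
    by_contra hne
    refine hA d (Nat.pos_of_ne_zero hne) (by simp only at hd hy; omega) ?_
    rcases b <;> rcases c <;> simp at h'
    · exact Or.inl h'.symm
    · exact Or.inr h'.symm
    · exact Or.inr (neg_eq_iff_eq_neg.1 h'.symm)
    · exact Or.inl h'.symm
  subst hd0
  simp only [add_zero] at hd
  subst hd
  rcases b <;> rcases c <;> simp at h' <;>
    first | rfl | exact absurd h' (ZMod.neg_one_ne_one) | exact absurd h'.symm (ZMod.neg_one_ne_one)

/-- An eigenvalue of order `N` has at least `2A` associates if no `q ^ d`, `d < A`, is `±1`. -/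
theorem exists_orbit {S : Finset K} {q : ℕ} (hq : ∀ x ∈ S, x ^ q ∈ S) (hi : ∀ x ∈ S, x⁻¹ ∈ S)
    {lam : K} (hl : lam ∈ S) {N : ℕ} (hN : orderOf lam = N) (h2 : 2 < N) (hc : q.Coprime N) {A : ℕ}
    (hA : ∀ d, 0 < d → d < A → ¬ Sgn q N d) :
    ∃ T ⊆ S, T.card = 2 * A ∧ ∀ mu ∈ T, (∃ x, mu = lam ^ expo q x) ∧ orderOf mu = N := by
  classical
  have h0 : lam ≠ 0 := fun h => by
    rw [h, orderOf_zero] at hN
    omega
  refine ⟨(Finset.univ ×ˢ Finset.range A).image (fun x => lam ^ expo q x), ?_, ?_, ?_⟩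
  · intro mu hmu
    obtain ⟨x, -, rfl⟩ := Finset.mem_image.1 hmu
    exact zpow_expo_mem K hq hi hl x
  · rw [Finset.card_image_of_injOn, Finset.card_product, Finset.card_univ, Fintype.card_bool,
      Finset.card_range]
    intro x hx y hy h
    simp only [Finset.coe_product, Set.mem_prod, Finset.coe_range, Set.mem_Iio] at hx hy
    exact expo_cast_inj h2 hc hA hx.2 hy.2 ((zpow_eq_iff h0 hN _ _).1 h)
  · intro mu hmu
    obtain ⟨⟨b, j⟩, -, rfl⟩ := Finset.mem_image.1 hmu
    refine ⟨⟨_, rfl⟩, ?_⟩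
    have hb : orderOf (lam ^ (cond b 1 (-1) : ℤ)) = N := by
      cases b
      · rw [cond_false, _root_.zpow_neg_one, ← hN]
        exact orderOf_eq_orderOf_iff.2 (fun k => by rw [inv_pow, inv_eq_one])
      · rw [cond_true, zpow_one, hN]
    rw [expo, _root_.zpow_mul, ← Nat.cast_pow, zpow_natCast, Nat.Coprime.orderOf_pow, hb]
    rw [hb]
    exact (hc.symm).pow_right _

section Form

variable [Fintype F]

theorem frob_mem (G : Matrix ι ι F) {x : K} (hx : x ∈ rootsK K G) :
    x ^ Fintype.card F ∈ rootsK K G := by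
  classical
  rw [rootsK, ← Multiset.count_pos, count_roots, Roots57.rootMultiplicity_frobenius, ← count_roots,
    Multiset.count_pos]
  exact hx

variable {K}

theorem roots_map_inv {G B : Matrix ι ι F} (hG : IsUnit G) (hB : IsUnit B) (h : Gᵀ * B * G = B) :
    (rootsK K G).map (·⁻¹) = rootsK K G := by
  have hGK : IsUnit (G.map (algebraMap F K)) := hG.map (algebraMap F K).mapMatrix
  have hGd := (Matrix.isUnit_iff_isUnit_det G).1 hG
  obtain ⟨b, rfl⟩ := hB
  have hinv : G⁻¹ = (b⁻¹ : (Matrix ι ι F)ˣ).val * Gᵀ * b.val :=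
    Matrix.inv_eq_left_inv (by rw [mul_assoc, mul_assoc, ← mul_assoc Gᵀ, h, Units.inv_mul])
  have hcp : G⁻¹.charpoly = G.charpoly := by
    rw [hinv, Matrix.coe_units_inv, Matrix.charpoly_units_conj', Matrix.charpoly_transpose]
  have hmap : (G.map (algebraMap F K))⁻¹ = G⁻¹.map (algebraMap F K) :=
    Matrix.inv_eq_left_inv (by
      rw [← Matrix.map_mul, Matrix.nonsing_inv_mul _ hGd, Matrix.map_one _ (map_zero _) (map_one _)])
  have key := Roots57.roots_charpoly_inv (G.map (algebraMap F K)) hGK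
  rw [hmap, Matrix.charpoly_map, Matrix.charpoly_map, hcp] at key
  exact key.symm

theorem isUnit_of_isometry {G B : Matrix ι ι F} (hB : IsUnit B) (h : Gᵀ * B * G = B) : IsUnit G := by
  rw [Matrix.isUnit_iff_isUnit_det] at hB ⊢
  rw [← h, det_mul] at hB
  exact isUnit_of_mul_isUnit_right hB

theorem inv_mem {G B : Matrix ι ι F} (hB : IsUnit B) (h : Gᵀ * B * G = B) {x : K}
    (hx : x ∈ rootsK K G) : x⁻¹ ∈ rootsK K G := by
  rw [← roots_map_inv (isUnit_of_isometry hB h) hB h]
  exact Multiset.mem_map_of_mem _ hx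

/-- The orbit of an eigenvalue inside the eigenvalues. -/
theorem exists_root_orbit {G B : Matrix ι ι F} (hB : IsUnit B) (h : Gᵀ * B * G = B) {lam : K}
    (hl : lam ∈ rootsK K G) {N A : ℕ} (hN : orderOf lam = N) (h2 : 2 < N)
    (hc : (Fintype.card F).Coprime N) (hA : ∀ d, 0 < d → d < A → ¬ Sgn (Fintype.card F) N d) :
    ∃ T : Finset K, T.val ≤ rootsK K G ∧ T.card = 2 * A ∧ 2 * A ≤ Fintype.card ι ∧
      ∀ mu ∈ T, (∃ x, mu = lam ^ expo (Fintype.card F) x) ∧ orderOf mu = N := by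
  classical
  obtain ⟨T, hT, hc', hm⟩ := exists_orbit K (S := (rootsK K G).toFinset) (q := Fintype.card F)
    (fun x hx => Multiset.mem_toFinset.2 (frob_mem K G (Multiset.mem_toFinset.1 hx)))
    (fun x hx => Multiset.mem_toFinset.2 (inv_mem hB h (Multiset.mem_toFinset.1 hx)))
    (Multiset.mem_toFinset.2 hl) hN h2 hc hA
  have hle : T.val ≤ rootsK K G :=
    (Multiset.le_iff_subset T.nodup).2 fun x hx => Multiset.mem_toFinset.1 (hT hx)
  refine ⟨T, hle, hc', ?_, hm⟩
  rw [← hc', ← card_rootsK K G]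
  exact Multiset.card_le_card hle

end Form

end CfsgLib.PrimeGraphBC
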