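import Cfsg.Agent.PrimeGraphBC.DiscTwo

/-!
# The prime graph of `PΩ (2n+1, q)`, `q` odd
-/

set_option autoImplicit false

namespace CfsgLib.PrimeGraphBC

open Matrix CfsgLib.Spinor CfsgLib.StdForms CfsgLib.Forms

variable {F : Type*} [Field F] [Fintype F]

local notation "q" => Fintype.card F
local notation "K" => AlgebraicClosure F

theorem two_ne_zero_of_odd_char {p : ℕ} [Fact p.Prime] [CharP F p] (hp2 : p ≠ 2) : (2 : F) ≠ 0 := fun h =>
  hp2 ((Nat.prime_dvd_prime_iff_eq Fact.out Nat.prime_two).1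
    ((CharP.cast_eq_zero_iff F p 2).1 (by exact_mod_cast h)))

theorem odd_card {p : ℕ} [Fact p.Prime] [CharP F p] (hp2 : p ≠ 2) : Odd q := by
  obtain ⟨f, -, hf⟩ := FiniteField.card F p
  rw [hf]
  exact ((Fact.out : p.Prime).odd_of_ne_two hp2).pow

theorem card_omega_mul {p : ℕ} [Fact p.Prime] [CharP F p] (hp2 : p ≠ 2) {b : ℕ} (hb : 1 ≤ b) :
    Nat.card (Cfsg.Omega F ⇑(oddQ b F)) * 4 =
      2 * q ^ (b ^ 2) * ∏ i ∈ Finset.range b, (q ^ (2 * (i + 1)) - 1) := by
  have h2 : (2 : F) ≠ 0 := two_ne_zero_of_odd_char hp2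
  rw [← index_omega_odd h2 (oddQ_nondegenerate h2 b) (by simp; omega), Subgroup.card_mul_index, coe_oddQ]
  exact Forms4.card_isometryGroup_quadFormOdd rfl (odd_card hp2) b

theorem exists_omega_prime {p r : ℕ} [Fact p.Prime] [CharP F p] [Fact r.Prime] (hp2 : p ≠ 2) {b : ℕ}
    (hb : 1 ≤ b) (h : r = 2 ∨ r = p ∨ eta q r ≤ b) :
    ∃ g : ↥(Cfsg.isometryGroup F ⇑(oddQ b F)), g ∈ Cfsg.Omega F ⇑(oddQ b F) ∧ orderOf g = r := by
  have hr := (Fact.out : r.Prime)
  have hcard := card_omega_mul (F := F) (b := b) hp2 hb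
  have hdvd : r ∣ Nat.card (Cfsg.Omega F ⇑(oddQ b F)) := by
    have hq1 : 1 ≤ q := Fintype.card_pos
    have h8 : 8 ∣ q ^ (2 * 1) - 1 := by
      obtain ⟨m, hm⟩ := odd_card (F := F) hp2
      rw [hm, show (2 * m + 1) ^ (2 * 1) = 4 * (m * (m + 1)) + 1 by ring, Nat.add_sub_cancel]
      obtain ⟨k, hk⟩ := Nat.even_mul_succ_self m
      exact ⟨k, by rw [hk]; ring⟩
    have h8' : 8 ∣ ∏ i ∈ Finset.range b, (q ^ (2 * (i + 1)) - 1) :=
      h8.trans (Finset.dvd_prod_of_mem (fun i => q ^ (2 * (i + 1)) - 1) (Finset.mem_range.2 (show 0 < b by omega)))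
    by_cases hr2 : r = 2
    · subst hr2
      obtain ⟨k, hk⟩ := h8'
      rw [hk] at hcard
      refine ⟨q ^ (b ^ 2) * k * 2, ?_⟩
      apply Nat.eq_of_mul_eq_mul_right (show 0 < 4 by norm_num)
      rw [hcard]
      ring
    · have h4 : r.Coprime 4 := (Nat.coprime_two_right.2 (hr.odd_of_ne_two hr2)).pow_right 2
      refine h4.dvd_of_dvd_mul_right ?_
      rw [hcard]
      rcases h with h | h | h
      · exact absurd h hr2
      · subst h
        obtain ⟨f, -, hf⟩ := FiniteField.card F r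
        refine Dvd.dvd.mul_right (Dvd.dvd.mul_left ?_ _) _
        rw [hf, ← pow_mul]
        exact dvd_pow_self r (Nat.mul_ne_zero f.pos.ne' (pow_ne_zero _ (by omega)))
      · by_cases hrp : r = p
        · subst hrp
          obtain ⟨f, -, hf⟩ := FiniteField.card F r
          refine Dvd.dvd.mul_right (Dvd.dvd.mul_left ?_ _) _
          rw [hf, ← pow_mul]
          exact dvd_pow_self r (Nat.mul_ne_zero f.pos.ne' (pow_ne_zero _ (by omega)))
        · exact Dvd.dvd.mul_left ((dvd_order_iff (not_dvd_card hr hrp) b).2 h) _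
  obtain ⟨g, hg⟩ := exists_prime_orderOf_dvd_card' r hdvd
  exact ⟨g, g.2, by rw [← hg, Subgroup.orderOf_coe]⟩

/-- Element orders of the simple group are those of `Ω`. -/
theorem mem_range_pOmega_iff {p : ℕ} [Fact p.Prime] [CharP F p] (hp2 : p ≠ 2) {n : ℕ} (hn : 2 ≤ n) (m : ℕ) :
    m ∈ Set.range (orderOf : Cfsg.POmega F (Cfsg.quadFormOdd n F) → ℕ) ↔
      ∃ g : ↥(Cfsg.isometryGroup F ⇑(oddQ n F)), g ∈ Cfsg.Omega F ⇑(oddQ n F) ∧ orderOf g = m := by
  have h2 : (2 : F) ≠ 0 := two_ne_zero_of_odd_char hp2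
  rw [← coe_oddQ]
  have hc : Nat.card (Subgroup.center ↥(Cfsg.Omega F ⇑(oddQ n F))) = 1 := by
    refine Forms4.card_center_omega_one (oddQ_nondegenerate h2 n) (by simp; omega) (Forms4.oddPairs n hn)
      fun g hg hgv => ?_
    exfalso
    have h1 := (mem_special_iff g).1 (omega_le_special hg)
    rw [hgv, Matrix.det_neg, Matrix.det_one, mul_one] at h1
    have hodd : Odd (Fintype.card (Unit ⊕ (Fin n ⊕ Fin n))) := ⟨n, by simp; ring⟩
    rw [hodd.neg_one_pow] at h1
    exact h2 (by linear_combination -h1)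
  rw [Subgroup.card_eq_one] at hc
  have hinj : Function.Injective (QuotientGroup.mk' (Subgroup.center ↥(Cfsg.Omega F ⇑(oddQ n F)))) := by
    rw [← MonoidHom.ker_eq_bot_iff, QuotientGroup.ker_mk', hc]
  constructor
  · rintro ⟨x, rfl⟩
    obtain ⟨g, rfl⟩ := QuotientGroup.mk'_surjective _ x
    exact ⟨g, g.2, by rw [Subgroup.orderOf_coe, orderOf_injective _ hinj]⟩
  · rintro ⟨g, hg, rfl⟩
    exact ⟨QuotientGroup.mk' _ ⟨g, hg⟩, by rw [orderOf_injective _ hinj, Subgroup.orderOf_mk]⟩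

omit [Fintype F] in
theorem expo_reduce {Q r M a : ℕ} (ha : 0 < a) {b : Bool}
    (hr : (Q : ZMod r) ^ a = ((cond b 1 (-1) : ℤ) : ZMod r))
    (hM : (Q : ZMod M) ^ a = ((cond b 1 (-1) : ℤ) : ZMod M)) :
    ∀ (j : ℕ) (c : Bool), ∃ e : Bool × ℕ, e.2 < a ∧ ((expo Q (c, j) : ℤ) : ZMod r) = expo Q e ∧
      ((expo Q (c, j) : ℤ) : ZMod M) = expo Q e := by
  intro j
  induction j using Nat.strong_induction_on with
  | _ j ih =>
    intro c
    rcases lt_or_ge j a with hj | hj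
    · exact ⟨(c, j), hj, rfl, rfl⟩
    obtain ⟨d, rfl⟩ := Nat.exists_eq_add_of_le hj
    obtain ⟨e, he, her, heM⟩ := ih d (by omega) (cond b c (!c))
    refine ⟨e, he, her ▸ ?_, heM ▸ ?_⟩
    · simp only [expo, Int.cast_mul, Int.cast_pow, Int.cast_natCast, pow_add, hr]
      cases b <;> cases c <;> simp
    · simp only [expo, Int.cast_mul, Int.cast_pow, Int.cast_natCast, pow_add, hM]
      cases b <;> cases c <;> simp

open Classical in
/-- An element of order `M` in the torus of an element of order `r`. -/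
theorem exists_torus_orth {p r M a : ℕ} [Fact p.Prime] [CharP F p] [Fact r.Prime] (hp2 : p ≠ 2) (hr2 : r ≠ 2)
    (hrp : r ≠ p) (ha : eta q r = a) (hM : ¬ p ∣ M) (hs : SameSign q r M a)
    {h : ↥(Cfsg.isometryGroup F ⇑(oddQ a F))} (hh : h ∈ Cfsg.Omega F ⇑(oddQ a F)) (ho : orderOf h = r) :
    ∃ x : ↥(Cfsg.isometryGroup F ⇑(oddQ a F)), orderOf x = M ∧ Commute x h := by
  have h2 : (2 : F) ≠ 0 := two_ne_zero_of_odd_char hp2
  have hr := (Fact.out : r.Prime)
  have hr3 : 2 < r := by have := hr.two_le; omega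
  have ha0 : 0 < a := ha ▸ eta_pos (not_dvd_card hr hrp)
  have hQ := oddQ_nondegenerate (F := F) h2 a
  have hι : Fintype.card (Unit ⊕ (Fin a ⊕ Fin a)) = 2 * a + 1 := by simp; ring
  set G := mat (oddQ a F) h with hG
  have hGo : orderOf G = r := (orderOf_mat h).trans ho
  obtain ⟨hnd, lam, hlam, hlo, -, T, hT, hTc, hTm⟩ :=
    nodup_of_eta (G := G) (p := p) hι.le ha.ge (isUnit_gram hQ) (form_mat h) hr2 hrp hGo
  obtain ⟨v, hv0, hGv⟩ := exists_fixed h2 hQ ⟨a, hι⟩ hh (ho ▸ pow_orderOf_eq_one h)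
    (fun e => hrp ((Nat.prime_dvd_prime_iff_eq Fact.out hr).1 ((CharP.cast_eq_zero_iff F p r).1 e)).symm)
  have h1R : (1 : K) ∈ rootsK K G := by
    rw [rootsK, Polynomial.mem_roots ((Polynomial.map_ne_zero_iff (algebraMap F K).injective).2 (charpoly_monic G).ne_zero),
      Polynomial.IsRoot, ← charpoly_map, eval_charpoly, map_one]
    rw [← exists_mulVec_eq_zero_iff]
    refine ⟨algebraMap F K ∘ v, fun h0 => hv0 ?_, ?_⟩
    · rw [show v = 0 from funext fun i => by simpa using congrFun h0 i, QuadraticMap.map_zero]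
    · rw [sub_mulVec, one_mulVec, sub_eq_zero]
      funext i
      rw [← RingHom.map_mulVec, hGv]
      rfl
  have hR : ∀ l ∈ rootsK K G, l ∈ T ∨ l = 1 := by
    intro l hl
    have hsub : insert 1 T ⊆ (rootsK K G).toFinset := fun x hx => by
      rcases Finset.mem_insert.1 hx with rfl | hx
      · exact Multiset.mem_toFinset.2 h1R
      · exact Multiset.mem_toFinset.2 (Multiset.mem_of_le hT hx)
    have h1T : (1 : K) ∉ T := fun h1 => by
      have := (hTm 1 h1).2
      rw [orderOf_one] at this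
      omega
    have heq := Finset.eq_of_subset_of_card_le hsub (by
      rw [Finset.card_insert_of_notMem h1T, Multiset.toFinset_card_of_nodup hnd, card_rootsK, hι, hTc])
    have := heq.symm ▸ Multiset.mem_toFinset.2 hl
    exact (Finset.mem_insert.1 this).symm
  obtain ⟨b, hbr, hbM⟩ : ∃ b : Bool, (q : ZMod r) ^ a = ((cond b 1 (-1) : ℤ) : ZMod r) ∧
      (q : ZMod M) ^ a = ((cond b 1 (-1) : ℤ) : ZMod M) := by
    rcases hs with ⟨e1, e2⟩ | ⟨e1, e2⟩
    · exact ⟨true, by simpa using e1, by simpa using e2⟩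
    · exact ⟨false, by simpa using e1, by simpa using e2⟩
  have hMK : (M : K) ≠ 0 := by
    rw [← map_natCast (algebraMap F K), _root_.map_ne_zero]
    exact fun e => hM ((CharP.cast_eq_zero_iff F p M).1 e)
  haveI : NeZero (M : K) := ⟨hMK⟩
  haveI : NeZero M := ⟨fun e => hMK (by simp [e])⟩
  obtain ⟨om, hom⟩ := HasEnoughRootsOfUnity.exists_primitiveRoot K M
  have homo : orderOf om = M := hom.eq_orderOf.symm
  have hom0 : om ≠ 0 := hom.ne_zero (NeZero.ne M)
  have hl0 : lam ≠ 0 := fun e => by rw [e, orderOf_zero] at hlo; omega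
  have hcop : Nat.Coprime q r := coprime_card hr hrp
  have hwd : ∀ e e' : Bool × ℕ, lam ^ expo q e = lam ^ expo q e' → om ^ expo q e = om ^ expo q e' := by
    intro e e' he
    obtain ⟨f, hf, hfr, hfM⟩ := expo_reduce ha0 hbr hbM e.2 e.1
    obtain ⟨f', hf', hfr', hfM'⟩ := expo_reduce ha0 hbr hbM e'.2 e'.1
    rw [zpow_eq_iff hl0 hlo] at he
    obtain rfl : f = f' := expo_cast_inj hr3 hcop (fun d hd0 hd => not_sgn_of_lt hd0 (ha.symm ▸ hd)) hf hf'
      (hfr.symm.trans (he.trans hfr'))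
    rw [zpow_eq_iff hom0 homo]
    exact hfM.trans hfM'.symm
  let x : K → K := fun l => if he : ∃ e, l = lam ^ expo q e then om ^ expo q he.choose else 1
  have hx : ∀ e, x (lam ^ expo q e) = om ^ expo q e := fun e => by
    have he : ∃ e', lam ^ expo q e = lam ^ expo q e' := ⟨e, rfl⟩
    show dite _ _ _ = _
    rw [dif_pos he]
    exact hwd _ _ he.choose_spec.symm
  have hx1 : x 1 = 1 := by
    show dite _ _ _ = _
    rw [dif_neg]
    rintro ⟨e, he⟩
    have h3 := (zpow_eq_iff hl0 hlo (expo q e) 0).1 (by rw [← he, zpow_zero])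
    have hu : IsUnit ((expo q e : ℤ) : ZMod r) := by
      simp only [expo, Int.cast_mul, Int.cast_pow, Int.cast_natCast]
      refine IsUnit.mul ?_ (((ZMod.isUnit_iff_coprime q r).2 hcop).pow _)
      rcases e with ⟨_ | _, m⟩ <;> simp
    rw [h3, Int.cast_zero] at hu
    exact not_isUnit_zero hu
  obtain ⟨X, hXG, hXB, hXo⟩ := exists_transfer (isUnit_gram hQ) (form_mat h) hnd x (fun l hl => by
      rcases hR l hl with hl | rfl
      · obtain ⟨⟨e, rfl⟩, -⟩ := hTm l hl
        rw [hx, ← zpow_natCast, ← zpow_natCast, ← _root_.zpow_mul, ← _root_.zpow_mul, expo_succ, hx]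
      · rw [one_pow, hx1, one_pow]) (fun l hl => by
      rcases hR l hl with hl | rfl
      · obtain ⟨⟨e, rfl⟩, -⟩ := hTm l hl
        rw [hx, ← _root_.zpow_neg, expo_neg, hx, ← zpow_add₀ hom0, ← expo_neg, neg_add_cancel, zpow_zero]
      · rw [inv_one, hx1, mul_one])
  obtain ⟨g, hg⟩ := exists_iso_of_form h2 hQ hXB
  refine ⟨g, ?_, mat_ext _ (by rw [Spinor.mat_mul, Spinor.mat_mul, hg]; exact hXG)⟩
  rw [← orderOf_mat g, hg, ← homo, orderOf_eq_orderOf_iff]
  intro k
  rw [hXo k]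
  constructor
  · intro hall
    have hlT : lam = lam ^ expo q (true, 0) := by simp [expo]
    have := hall lam hlam
    rw [hlT, hx] at this
    simpa [expo] using this
  · intro hk l hl
    rcases hR l hl with hl | rfl
    · obtain ⟨⟨e, rfl⟩, -⟩ := hTm l hl
      rw [hx, ← zpow_natCast, ← _root_.zpow_mul, mul_comm, _root_.zpow_mul, zpow_natCast, hk, _root_.one_zpow]
    · rw [hx1, one_pow]

/-- Adjacency of two odd primes different from the characteristic. -/
theorem orth_pair_iff {p r s n : ℕ} [Fact p.Prime] [CharP F p] [Fact r.Prime] [Fact s.Prime] (hp2 : p ≠ 2)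
    (hn : 2 ≤ n) (hr2 : r ≠ 2) (hs2 : s ≠ 2) (hrp : r ≠ p) (hsp : s ≠ p) (hrs : r ≠ s)
    (hs : eta q s ≤ n) (hle : eta q r ≤ eta q s) :
    r * s ∈ Set.range (orderOf : Cfsg.POmega F (Cfsg.quadFormOdd n F) → ℕ) ↔
      eta q r + eta q s ≤ n ∨ SameSign q r s (eta q s) := by
  rw [mem_range_pOmega_iff hp2 hn]
  have h2 : (2 : F) ≠ 0 := two_ne_zero_of_odd_char hp2
  have hr' := (Fact.out : r.Prime)
  have hs' := (Fact.out : s.Prime)
  have hc : r.Coprime s := (Nat.coprime_primes hr' hs').2 hrs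
  constructor
  · rintro ⟨g, -, hgo⟩
    by_contra hcon
    push Not at hcon
    refine no_pair (n := n) ?_ (isUnit_gram (oddQ_nondegenerate h2 n)) (form_mat g) hr2 hs2 hrp hsp hrs hle
      hcon.1 hcon.2 ((orderOf_mat g).trans hgo)
    simp
    omega
  · rintro (h | h)
    · obtain ⟨d, rfl⟩ := Nat.exists_eq_add_of_le (show eta q r ≤ n by omega)
      have h1 : 1 ≤ eta q r := eta_pos (not_dvd_card hr' hrp)
      obtain ⟨g1, hg1, hg1o⟩ := exists_omega_prime (F := F) (r := r) hp2 h1 (Or.inr (Or.inr le_rfl))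
      have h1' : 1 ≤ eta q s := eta_pos (not_dvd_card hs' hsp)
      obtain ⟨g2, hg2, hg2o⟩ := exists_omega_prime (F := F) (r := s) (b := d) hp2 (by omega)
        (Or.inr (Or.inr (by omega)))
      exact exists_omega_sum h2 hg1 hg1o
        (fun e => hrp ((Nat.prime_dvd_prime_iff_eq Fact.out hr').1 ((CharP.cast_eq_zero_iff F p r).1 e)).symm)
        hg2 hg2o hc
    · obtain ⟨d, rfl⟩ := Nat.exists_eq_add_of_le hs
      obtain ⟨g1, hg1, hg1o⟩ := exists_omega_prime (F := F) (r := s) hp2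
        (show 1 ≤ eta q s from eta_pos (not_dvd_card hs' hsp)) (Or.inr (Or.inr le_rfl))
      have hss : SameSign q s (r * s) (eta q s) := by
        rcases (sgn_mul_iff hc _).2 h with e | e
        · have e' := congrArg (ZMod.castHom (dvd_mul_left s r) (ZMod s)) e
          simp only [map_pow, map_natCast, map_one] at e'
          exact Or.inl ⟨e', e⟩
        · have e' := congrArg (ZMod.castHom (dvd_mul_left s r) (ZMod s)) e
          simp only [map_pow, map_natCast, map_one, map_neg] at e'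
          exact Or.inr ⟨e', e⟩
      obtain ⟨x, hx, -⟩ := exists_torus_orth hp2 hs2 hsp rfl (M := r * s) (fun e => by
        rcases (Fact.out : p.Prime).dvd_mul.1 e with e | e
        · exact hrp ((Nat.prime_dvd_prime_iff_eq Fact.out hr').1 e).symm
        · exact hsp ((Nat.prime_dvd_prime_iff_eq Fact.out hs').1 e).symm) hss hg1 hg1o
      exact exists_omega_embed (odd_mem_omega h2 (oddQ_nondegenerate h2 _)
        (hx ▸ (hr'.odd_of_ne_two hr2).mul (hs'.odd_of_ne_two hs2))) hx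

/-- Adjacency of an odd prime and the characteristic. -/
theorem orth_char_iff {p r n : ℕ} [Fact p.Prime] [CharP F p] [Fact r.Prime] (hp2 : p ≠ 2) (hn : 2 ≤ n)
    (hr2 : r ≠ 2) (hrp : r ≠ p) :
    r * p ∈ Set.range (orderOf : Cfsg.POmega F (Cfsg.quadFormOdd n F) → ℕ) ↔ eta q r ≤ n - 1 := by
  rw [mem_range_pOmega_iff hp2 hn]
  have h2 : (2 : F) ≠ 0 := two_ne_zero_of_odd_char hp2
  have hr' := (Fact.out : r.Prime)
  constructor
  · rintro ⟨g, -, hgo⟩
    by_contra hcon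
    refine no_char (n := n) ?_ (isUnit_gram (oddQ_nondegenerate h2 n)) (form_mat g) hr2 hrp (by omega)
      ((orderOf_mat g).trans hgo)
    simp
    omega
  · intro h
    obtain ⟨d, rfl⟩ := Nat.exists_eq_add_of_le (show eta q r ≤ n by omega)
    have h1 : 1 ≤ eta q r := eta_pos (not_dvd_card hr' hrp)
    obtain ⟨g1, hg1, hg1o⟩ := exists_omega_prime (F := F) (r := r) hp2 h1 (Or.inr (Or.inr le_rfl))
    obtain ⟨g2, hg2, hg2o⟩ := exists_omega_prime (F := F) (r := p) (b := d) hp2 (by omega) (Or.inr (Or.inl rfl))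
    exact exists_omega_sum h2 hg1 hg1o
      (fun e => hrp ((Nat.prime_dvd_prime_iff_eq Fact.out hr').1 ((CharP.cast_eq_zero_iff F p r).1 e)).symm)
      hg2 hg2o ((Nat.coprime_primes hr' Fact.out).2 hrp)

/-- Adjacency of an odd prime and `2`. -/
theorem orth_two_iff {p r n : ℕ} [Fact p.Prime] [CharP F p] [Fact r.Prime] (hp2 : p ≠ 2) (hn : 2 ≤ n)
    (hr2 : r ≠ 2) (hrp : r ≠ p) (hle : eta q r ≤ n) :
    2 * r ∈ Set.range (orderOf : Cfsg.POmega F (Cfsg.quadFormOdd n F) → ℕ) ↔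
      eta q r ≤ n - 1 ∨ SameSign q r 4 n := by
  rw [mem_range_pOmega_iff hp2 hn]
  have h2 : (2 : F) ≠ 0 := two_ne_zero_of_odd_char hp2
  have hr' := (Fact.out : r.Prime)
  constructor
  · rintro ⟨g, hg, hgo⟩
    by_contra hcon
    push Not at hcon
    exact hcon.2 (omega_sameSign hp2 (by omega) hr2 hrp (by omega) hg hgo)
  · intro h
    rcases Nat.lt_or_ge (eta q r) n with hlt | hge
    · obtain ⟨d, rfl⟩ := Nat.exists_eq_add_of_le (show 1 ≤ n by omega)
      haveI : Fact (Nat.Prime 2) := ⟨Nat.prime_two⟩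
      obtain ⟨g1, hg1, hg1o⟩ := exists_omega_prime (F := F) (r := 2) hp2 (le_refl 1) (Or.inl rfl)
      obtain ⟨g2, hg2, hg2o⟩ := exists_omega_prime (F := F) (r := r) (b := d) hp2 (by omega)
        (Or.inr (Or.inr (by omega)))
      exact exists_omega_sum h2 hg1 hg1o (by exact_mod_cast h2) hg2 hg2o
        (Nat.coprime_two_left.2 (hr'.odd_of_ne_two hr2))
    · have he : eta q r = n := le_antisymm hle hge
      have hS : SameSign q r 4 n := h.resolve_left (by omega)
      obtain ⟨g1, hg1, hg1o⟩ := exists_omega_prime (F := F) (r := r) (b := n) hp2 (by omega)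
        (Or.inr (Or.inr hle))
      obtain ⟨x, hx, hxc⟩ := exists_torus_orth hp2 hr2 hrp he (M := 4) (fun e => hp2
        ((Nat.prime_dvd_prime_iff_eq Fact.out Nat.prime_two).1
          ((Fact.out : p.Prime).dvd_of_dvd_pow (show p ∣ 2 ^ 2 from e)))) hS hg1 hg1o
      refine ⟨x ^ 2 * g1, mul_mem (sq_mem_omega h2 (oddQ_nondegenerate h2 n) x) hg1, ?_⟩
      have hx2 : orderOf (x ^ 2) = 2 := by
        rw [orderOf_pow' _ two_ne_zero, hx]
        rfl
      rw [(hxc.pow_left 2).orderOf_mul_eq_mul_orderOf_of_coprime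
        (by rw [hx2, hg1o]; exact Nat.coprime_two_left.2 (hr'.odd_of_ne_two hr2)), hx2, hg1o]

theorem orth_two_char {p n : ℕ} [Fact p.Prime] [CharP F p] (hp2 : p ≠ 2) (hn : 2 ≤ n) :
    2 * p ∈ Set.range (orderOf : Cfsg.POmega F (Cfsg.quadFormOdd n F) → ℕ) := by
  rw [mem_range_pOmega_iff hp2 hn]
  have h2 : (2 : F) ≠ 0 := two_ne_zero_of_odd_char hp2
  obtain ⟨d, rfl⟩ := Nat.exists_eq_add_of_le (show 1 ≤ n by omega)
  haveI : Fact (Nat.Prime 2) := ⟨Nat.prime_two⟩
  obtain ⟨g1, hg1, hg1o⟩ := exists_omega_prime (F := F) (r := 2) hp2 (le_refl 1) (Or.inl rfl)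
  obtain ⟨g2, hg2, hg2o⟩ := exists_omega_prime (F := F) (r := p) (b := d) hp2 (by omega) (Or.inr (Or.inl rfl))
  exact exists_omega_sum h2 hg1 hg1o (by exact_mod_cast h2) hg2 hg2o
    (Nat.coprime_two_left.2 ((Fact.out : p.Prime).odd_of_ne_two hp2))

/-- A prime dividing the order of an element is small. -/
theorem orth_eta_le {p r n m : ℕ} [Fact p.Prime] [CharP F p] [Fact r.Prime] (hp2 : p ≠ 2) (hn : 2 ≤ n)
    (hr2 : r ≠ 2) (hrp : r ≠ p) (hm : m ∈ Set.range (orderOf : Cfsg.POmega F (Cfsg.quadFormOdd n F) → ℕ))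
    (hd : r ∣ m) : eta q r ≤ n := by
  obtain ⟨g, hg, hgo⟩ := (mem_range_pOmega_iff hp2 hn m).1 hm
  have h := hd.trans (hgo ▸ Subgroup.orderOf_dvd_natCard (Cfsg.Omega F ⇑(oddQ n F)) hg)
  have h4 := h.mul_right 4
  rw [card_omega_mul hp2 (by omega)] at h4
  have hr' := (Fact.out : r.Prime)
  rw [← dvd_order_iff (not_dvd_card hr' hrp)]
  have h' : r ∣ 2 * q ^ (n ^ 2) * ∏ i ∈ Finset.range n, (q ^ (2 * (i + 1)) - 1) := h4
  refine (hr'.dvd_mul.1 h').resolve_left fun e => ?_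
  rcases hr'.dvd_mul.1 e with e | e
  · exact hr2 ((Nat.prime_dvd_prime_iff_eq hr' Nat.prime_two).1 e)
  · exact not_dvd_card hr' hrp (hr'.dvd_of_dvd_pow e)

end CfsgLib.PrimeGraphBC
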