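import Cfsg.Agent.PrimeGraphBC.Generic
import Cfsg.Agent.SympOrders.Witness
import Cfsg.Agent.Forms.SymplecticOrder
import Cfsg.Prelude.Def_Classical

/-!
# The prime graph of `PSp (2n, q)` away from `2`
-/

set_option autoImplicit false

namespace CfsgLib.PrimeGraphBC

open Matrix Polynomial

variable {F : Type*} [Field F] [Fintype F] {n : ℕ}

local notation "q" => Fintype.card F
local notation "Sp" => fun m : ℕ => Matrix.symplecticGroup (Fin m) F

theorem isUnit_J : IsUnit (Matrix.J (Fin n) F) := by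
  rw [Matrix.isUnit_iff_isUnit_det]
  exact Matrix.isUnit_det_J (l := Fin n) (R := F)

theorem sp_form (g : Matrix.symplecticGroup (Fin n) F) :
    (g : Matrix (Fin n ⊕ Fin n) (Fin n ⊕ Fin n) F)ᵀ * Matrix.J (Fin n) F * g = Matrix.J (Fin n) F := by
  have h := SymplecticGroup.mem_iff.1 (SymplecticGroup.transpose_mem g.2)
  rwa [transpose_transpose] at h

theorem orderOf_coe (g : Matrix.symplecticGroup (Fin n) F) :
    orderOf (g : Matrix (Fin n ⊕ Fin n) (Fin n ⊕ Fin n) F) = orderOf g :=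
  orderOf_injective (Submonoid.subtype _) Subtype.val_injective g

/-- The scalar in a power landing in the centre. -/
theorem scalar_of_mk_pow (hn : 0 < n) {g : Matrix.symplecticGroup (Fin n) F} {k : ℕ}
    (h : (QuotientGroup.mk g : Cfsg.PSp n F) ^ k = 1) :
    ∃ c : F, c * c = 1 ∧ (g : Matrix (Fin n ⊕ Fin n) (Fin n ⊕ Fin n) F) ^ k = c • 1 := by
  obtain ⟨c, hc⟩ := (SympOrders.mk_pow_eq_one_iff g k).1 h
  exact ⟨c, SympOrders.scalar_sq (g := g ^ k) hn (by rw [SubmonoidClass.coe_pow]; exact hc), hc⟩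

theorem smul_one_inj (hn : 0 < n) {c d : F}
    (h : c • (1 : Matrix (Fin n ⊕ Fin n) (Fin n ⊕ Fin n) F) = d • 1) : c = d := by
  simpa using congrFun (congrFun h (Sum.inl ⟨0, hn⟩)) (Sum.inl ⟨0, hn⟩)

theorem one_of_sq_charTwo {c : F} (h2 : (2 : F) = 0) (h : c * c = 1) : c = 1 := by
  rcases mul_self_eq_one_iff.1 h with h1 | h1
  · exact h1
  · rw [h1]; linear_combination -h2

theorem orderOf_mk (hn : 0 < n) (g : Matrix.symplecticGroup (Fin n) F)
    (h : Odd (orderOf g) ∨ (2 : F) = 0) : orderOf (QuotientGroup.mk g : Cfsg.PSp n F) = orderOf g := by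
  refine Nat.dvd_antisymm (orderOf_map_dvd (QuotientGroup.mk' _) g) ?_
  obtain ⟨c, hc, hgc⟩ := scalar_of_mk_pow hn (pow_orderOf_eq_one (QuotientGroup.mk g : Cfsg.PSp n F))
  have h2 : g ^ (orderOf (QuotientGroup.mk g : Cfsg.PSp n F) * 2) = 1 := by
    apply Subtype.ext
    rw [pow_mul, SubmonoidClass.coe_pow, SubmonoidClass.coe_pow, hgc, _root_.smul_pow, sq, hc, one_pow,
      one_smul]
    rfl
  rcases h with h | h
  · exact (Nat.coprime_two_right.2 h).dvd_of_dvd_mul_right (orderOf_dvd_of_pow_eq_one h2)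
  · refine orderOf_dvd_of_pow_eq_one (Subtype.ext ?_)
    rw [SubmonoidClass.coe_pow, hgc, one_of_sq_charTwo h hc, one_smul]
    rfl

theorem exists_lift (hn : 0 < n) (x : Cfsg.PSp n F) (h : Odd (orderOf x) ∨ (2 : F) = 0) :
    ∃ g : Matrix.symplecticGroup (Fin n) F, orderOf g = orderOf x := by
  obtain ⟨g, rfl⟩ := QuotientGroup.mk_surjective x
  rcases h with h | h
  · refine ⟨g ^ 2, Nat.dvd_antisymm ?_ ?_⟩
    · obtain ⟨c, hc, hgc⟩ := scalar_of_mk_pow hn (pow_orderOf_eq_one (QuotientGroup.mk g : Cfsg.PSp n F))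
      refine orderOf_dvd_of_pow_eq_one (Subtype.ext ?_)
      rw [← pow_mul, mul_comm, pow_mul, SubmonoidClass.coe_pow, SubmonoidClass.coe_pow, hgc,
        _root_.smul_pow, sq, hc, one_pow, one_smul]
      rfl
    · have := orderOf_map_dvd (QuotientGroup.mk' (Subgroup.center (Matrix.symplecticGroup (Fin n) F))) (g ^ 2)
      rw [map_pow] at this
      refine dvd_trans (dvd_of_eq ?_) this
      exact ((Nat.coprime_two_right.2 h).orderOf_pow).symm
  · obtain ⟨c, hc, hgc⟩ := scalar_of_mk_pow hn (pow_orderOf_eq_one (QuotientGroup.mk g : Cfsg.PSp n F))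
    refine ⟨g, Nat.dvd_antisymm (orderOf_dvd_of_pow_eq_one (Subtype.ext ?_))
      (orderOf_map_dvd (QuotientGroup.mk' _) g)⟩
    rw [SubmonoidClass.coe_pow, hgc, one_of_sq_charTwo h hc, one_smul]
    rfl

theorem dvd_card_sp_iff {p r : ℕ} [Fact p.Prime] [CharP F p] [Fact r.Prime] (hrp : r ≠ p) (a : ℕ) :
    r ∣ Nat.card (Matrix.symplecticGroup (Fin a) F) ↔ eta q r ≤ a := by
  have h := not_dvd_card (F := F) (p := p) Fact.out hrp
  rw [Forms.card_symplecticGroup, (Fact.out : r.Prime).dvd_mul, dvd_order_iff h]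
  exact or_iff_right fun h' => h ((Fact.out : r.Prime).dvd_of_dvd_pow h')

theorem eta_le_of_dvd {p r : ℕ} [Fact p.Prime] [CharP F p] [Fact r.Prime] (hrp : r ≠ p)
    (h : r ∣ Nat.card (Cfsg.PSp n F)) : eta q r ≤ n :=
  (dvd_card_sp_iff hrp n).1 (h.trans (Subgroup.card_quotient_dvd_card _))

theorem exists_order_prime {p r : ℕ} [Fact p.Prime] [CharP F p] [Fact r.Prime] (hrp : r ≠ p) {a : ℕ}
    (h : eta q r ≤ a) : ∃ g : Matrix.symplecticGroup (Fin a) F, orderOf g = r :=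
  exists_prime_orderOf_dvd_card' r ((dvd_card_sp_iff hrp a).2 h)

theorem exists_order_char (p : ℕ) [Fact p.Prime] [CharP F p] {a : ℕ} (ha : 1 ≤ a) :
    ∃ g : Matrix.symplecticGroup (Fin a) F, orderOf g = p := by
  refine exists_prime_orderOf_dvd_card' p ?_
  obtain ⟨f, -, hf⟩ := FiniteField.card F p
  rw [Forms.card_symplecticGroup, hf, ← pow_mul]
  exact dvd_mul_of_dvd_left (dvd_pow_self p (Nat.mul_ne_zero f.pos.ne' (pow_ne_zero _ (by omega)))) _

theorem spSum_injective (a b : ℕ) : Function.Injective (SympOrders.spSum (F := F) a b) := by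
  rw [injective_iff_map_eq_one]
  rintro ⟨x, y⟩ h
  obtain ⟨h1, h2⟩ := SympOrders.spSum_scalar x y 1 (by rw [h, one_smul]; rfl)
  rw [one_smul] at h1 h2
  exact Prod.ext (Subtype.ext h1) (Subtype.ext h2)

theorem orderOf_spSum {a b : ℕ} (x : Matrix.symplecticGroup (Fin a) F) (y : Matrix.symplecticGroup (Fin b) F) :
    orderOf (SympOrders.spSum a b (x, y)) = Nat.lcm (orderOf x) (orderOf y) := by
  rw [orderOf_injective _ (spSum_injective a b), Prod.orderOf_mk]

theorem mem_of_odd (hn : 0 < n) {m : ℕ} (g : Matrix.symplecticGroup (Fin n) F) (hg : orderOf g = m)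
    (h : Odd m ∨ (2 : F) = 0) : m ∈ Set.range (orderOf : Cfsg.PSp n F → ℕ) :=
  ⟨QuotientGroup.mk g, by rw [orderOf_mk hn g (hg ▸ h), hg]⟩

theorem exists_torus {N b : ℕ} {p : ℕ} [Fact p.Prime] [CharP F p] (hb : 1 ≤ b)
    (h : (q : ZMod N) ^ b = 1 ∨ (q : ZMod N) ^ b = -1) :
    ∃ z : Matrix.symplecticGroup (Fin b) F, N ∣ orderOf z := by
  rcases h with h | h
  · obtain ⟨z, hz⟩ := SympOrders.exists_torus_minus (F := F) (p := p) hb
    refine ⟨z, hz ▸ ?_⟩
    rw [← ZMod.natCast_eq_zero_iff, Nat.cast_sub (Nat.one_le_pow _ _ Fintype.card_pos), Nat.cast_pow,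
      Nat.cast_one, h, sub_self]
  · obtain ⟨z, hz⟩ := SympOrders.exists_torus_plus (F := F) (p := p) hb
    refine ⟨z, hz ▸ ?_⟩
    rw [← ZMod.natCast_eq_zero_iff, Nat.cast_add, Nat.cast_pow, Nat.cast_one, h, neg_add_cancel]

/-- Adjacency of two odd primes different from the characteristic. -/
theorem pair_iff {p r s : ℕ} [Fact p.Prime] [CharP F p] [Fact r.Prime] [Fact s.Prime] (hn : 1 ≤ n)
    (hr2 : r ≠ 2) (hs2 : s ≠ 2) (hrp : r ≠ p) (hsp : s ≠ p) (hrs : r ≠ s)
    (hs : eta q s ≤ n) (hle : eta q r ≤ eta q s) :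
    r * s ∈ Set.range (orderOf : Cfsg.PSp n F → ℕ) ↔
      eta q r + eta q s ≤ n ∨ SameSign q r s (eta q s) := by
  haveI : Nonempty (Fin n) := ⟨⟨0, hn⟩⟩
  have hodd : Odd (r * s) := ((Fact.out : r.Prime).odd_of_ne_two hr2).mul ((Fact.out : s.Prime).odd_of_ne_two hs2)
  have hc : r.Coprime s := (Nat.coprime_primes Fact.out Fact.out).2 hrs
  constructor
  · rintro ⟨x, hx⟩
    by_contra hcon
    push Not at hcon
    obtain ⟨g, hg⟩ := exists_lift hn x (Or.inl (hx ▸ hodd))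
    refine no_pair (n := n) ?_ isUnit_J (sp_form g) hr2 hs2 hrp hsp hrs hle hcon.1 hcon.2 ?_
    · simp [two_mul]
    · rw [orderOf_coe, hg, hx]
  · rintro (h | h)
    · obtain ⟨d, rfl⟩ := Nat.exists_eq_add_of_le (show eta q r ≤ n by omega)
      obtain ⟨g1, hg1⟩ := exists_order_prime (F := F) hrp (le_refl (eta q r))
      obtain ⟨g2, hg2⟩ := exists_order_prime (F := F) hsp (show eta q s ≤ d by omega)
      exact mem_of_odd hn (SympOrders.spSum _ _ (g1, g2))
        (by rw [orderOf_spSum, hg1, hg2, hc.lcm_eq_mul]) (Or.inl hodd)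
    · obtain ⟨d, rfl⟩ := Nat.exists_eq_add_of_le hs
      obtain ⟨z, hz⟩ := exists_torus (F := F) (p := p) (N := r * s) (b := eta q s)
        (eta_pos (not_dvd_card Fact.out hsp)) ((sgn_mul_iff hc _).2 h)
      refine mem_of_odd hn (SympOrders.spSum _ _ (z ^ (orderOf z / (r * s)), 1)) ?_ (Or.inl hodd)
      rw [orderOf_spSum, orderOf_one, Nat.lcm_one_right, orderOf_pow_orderOf_div (orderOf_pos z).ne' hz]

/-- Adjacency of an odd prime and the characteristic. -/
theorem char_iff {p r : ℕ} [Fact p.Prime] [CharP F p] [Fact r.Prime] (hn : 1 ≤ n)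
    (hr2 : r ≠ 2) (hrp : r ≠ p) :
    r * p ∈ Set.range (orderOf : Cfsg.PSp n F → ℕ) ↔ eta q r ≤ n - 1 := by
  haveI : Nonempty (Fin n) := ⟨⟨0, hn⟩⟩
  have hcase : Odd (r * p) ∨ (2 : F) = 0 := by
    rcases (Fact.out : p.Prime).eq_two_or_odd' with h | h
    · subst h
      exact Or.inr (CharP.cast_eq_zero F 2)
    · exact Or.inl (((Fact.out : r.Prime).odd_of_ne_two hr2).mul h)
  constructor
  · rintro ⟨x, hx⟩
    by_contra hcon
    obtain ⟨g, hg⟩ := exists_lift hn x (hx ▸ hcase)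
    refine no_char (n := n) ?_ isUnit_J (sp_form g) hr2 hrp (by omega) ?_
    · simp [two_mul]
    · rw [orderOf_coe, hg, hx]
  · intro h
    obtain ⟨m, rfl⟩ := Nat.exists_eq_add_of_le' hn
    obtain ⟨g1, hg1⟩ := exists_order_prime (F := F) hrp (show eta q r ≤ m by omega)
    obtain ⟨g2, hg2⟩ := exists_order_char (F := F) p (le_refl 1)
    exact mem_of_odd hn (SympOrders.spSum _ _ (g1, g2))
      (by rw [orderOf_spSum, hg1, hg2, ((Nat.coprime_primes Fact.out Fact.out).2 hrp).lcm_eq_mul]) hcase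

end CfsgLib.PrimeGraphBC
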