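import Cfsg.Agent.Forms4.POmegaOrders
import Cfsg.Agent.FormDiscr.Basic
import Cfsg.Agent.Forms.OrthIndex
import Cfsg.Agent.Forms.OrthDet
import Cfsg.Agent.PrimeGraphBC.Symp

/-!
# Isometries of the odd dimensional orthogonal group
-/

set_option autoImplicit false

namespace CfsgLib.PrimeGraphBC

open Matrix CfsgLib.Spinor CfsgLib.StdForms CfsgLib.Forms

section General

variable {F : Type*} [Field F] {ι : Type} [Fintype ι] [DecidableEq ι] {Q : QuadraticForm F (ι → F)}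

theorem polar_eq_dot (x y : ι → F) :
    QuadraticMap.polar (⇑Q) x y = x ⬝ᵥ (FormDiscr.gram Q *ᵥ y) := by
  rw [FormDiscr.gram_eq, ← Matrix.toLinearMap₂'_apply', Matrix.toLinearMap₂'_toMatrix']
  rfl

theorem form_mat (g : ↥(Cfsg.isometryGroup F ⇑Q)) :
    (mat Q g)ᵀ * FormDiscr.gram Q * mat Q g = FormDiscr.gram Q := by
  simp only [FormDiscr.gram_eq]
  conv_rhs => rw [show QuadraticMap.polarBilin Q =
    (QuadraticMap.polarBilin Q).compl₁₂ (Matrix.toLin' (mat Q g)) (Matrix.toLin' (mat Q g)) from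
    LinearMap.ext₂ fun x y => (polar_mulVec Q g x y).symm]
  rw [LinearMap.toMatrix₂'_compl₁₂, LinearMap.toMatrix'_toLin']

theorem isUnit_gram (hQ : (QuadraticMap.polarBilin Q).Nondegenerate) : IsUnit (FormDiscr.gram Q) :=
  (Matrix.isUnit_iff_isUnit_det _).2 (isUnit_iff_ne_zero.2 (FormDiscr.gram_det_ne_zero Q hQ))

theorem exists_iso_of_form [Fintype F] (h2 : (2 : F) ≠ 0) (hQ : (QuadraticMap.polarBilin Q).Nondegenerate)
    {X : Matrix ι ι F} (h : Xᵀ * FormDiscr.gram Q * X = FormDiscr.gram Q) :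
    ∃ g : ↥(Cfsg.isometryGroup F ⇑Q), mat Q g = X := by
  have hX : IsUnit X := isUnit_of_isometry (isUnit_gram hQ) h
  refine ⟨⟨hX.unit, FieldEmb.mem_isometryGroup.2 fun v => ?_⟩, rfl⟩
  have h1 : QuadraticMap.polar (⇑Q) (X *ᵥ v) (X *ᵥ v) = QuadraticMap.polar (⇑Q) v v := by
    rw [polar_eq_dot, polar_eq_dot, ← dotProduct_transpose_mulVec_aux X v]
    rw [mulVec_mulVec, mulVec_mulVec, h]
  rw [polar_self', polar_self'] at h1
  exact mul_left_cancel₀ h2 h1
where
  dotProduct_transpose_mulVec_aux (X : Matrix ι ι F) (v : ι → F) :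
      v ⬝ᵥ (Xᵀ *ᵥ (FormDiscr.gram Q *ᵥ (X *ᵥ v))) = (X *ᵥ v) ⬝ᵥ (FormDiscr.gram Q *ᵥ (X *ᵥ v)) := by
    rw [dotProduct_mulVec, vecMul_transpose]

variable [Fintype F]

theorem sq_mem_omega (h2 : (2 : F) ≠ 0) (hQ : (QuadraticMap.polarBilin Q).Nondegenerate)
    (g : ↥(Cfsg.isometryGroup F ⇑Q)) : g ^ 2 ∈ Cfsg.Omega F ⇑Q := by
  classical
  rw [omega_eq_ker hQ (exists_isReflProd h2 hQ) h2, MonoidHom.mem_ker, map_pow]
  exact Prod.ext (Int.units_sq _) (Int.units_sq _)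

theorem odd_mem_omega (h2 : (2 : F) ≠ 0) (hQ : (QuadraticMap.polarBilin Q).Nondegenerate)
    {g : ↥(Cfsg.isometryGroup F ⇑Q)} (hg : Odd (orderOf g)) : g ∈ Cfsg.Omega F ⇑Q := by
  obtain ⟨m, hm⟩ := hg
  have h : (g ^ (m + 1)) ^ 2 = g := by
    rw [← pow_mul, show (m + 1) * 2 = (2 * m + 1) + 1 by ring, pow_succ, ← hm, pow_orderOf_eq_one, one_mul]
  rw [← h]
  exact sq_mem_omega h2 hQ _

omit [Fintype F] in
theorem orderOf_mat (g : ↥(Cfsg.isometryGroup F ⇑Q)) : orderOf (mat Q g) = orderOf g :=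
  orderOf_injective ((Units.coeHom (Matrix ι ι F)).comp (Cfsg.isometryGroup F ⇑Q).subtype)
    (fun _ _ h => mat_ext Q h) g

omit [Fintype F] in
/-- An element of `Ω` of order prime to `p` in odd dimension fixes an anisotropic vector. -/
theorem exists_fixed (h2 : (2 : F) ≠ 0) (hQ : (QuadraticMap.polarBilin Q).Nondegenerate)
    (hodd : Odd (Fintype.card ι)) {g : ↥(Cfsg.isometryGroup F ⇑Q)} (hg : g ∈ Cfsg.Omega F ⇑Q)
    {M : ℕ} (hM : g ^ M = 1) (hM' : (M : F) ≠ 0) :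
    ∃ v, Q v ≠ 0 ∧ mat Q g *ᵥ v = v := by
  set G := mat Q g with hG
  have hGM : G ^ M = 1 := by
    rw [hG]
    exact (map_pow ((Units.coeHom (Matrix ι ι F)).comp (Cfsg.isometryGroup F ⇑Q).subtype) g M).symm.trans
      (by rw [hM]; rfl)
  have hdet : (G - 1).det = 0 := by
    have hd : G.det = 1 := (mem_special_iff g).1 (omega_le_special hg)
    have h1 : Gᵀ * FormDiscr.gram Q * (G - 1) = -((G - 1)ᵀ * FormDiscr.gram Q) := by
      rw [mul_sub, form_mat, mul_one, transpose_sub, transpose_one, sub_mul, one_mul, neg_sub]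
    have h3 := congrArg Matrix.det h1
    rw [det_neg, hodd.neg_one_pow, det_mul, det_mul, det_mul, det_transpose, det_transpose, hd, one_mul] at h3
    have h4 : (2 : F) * (FormDiscr.gram Q).det * (G - 1).det = 0 := by linear_combination h3
    rcases mul_eq_zero.1 h4 with h5 | h5
    · rcases mul_eq_zero.1 h5 with h6 | h6
      · exact absurd h6 h2
      · exact absurd h6 (FormDiscr.gram_det_ne_zero Q hQ)
    · exact h5
  obtain ⟨u, hu0, hu⟩ := exists_mulVec_eq_zero_iff.2 hdet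
  rw [sub_mulVec, one_mulVec, sub_eq_zero] at hu
  obtain ⟨w, hw⟩ : ∃ w, QuadraticMap.polar (⇑Q) u w ≠ 0 := by
    by_contra hcon
    push Not at hcon
    exact hu0 (hQ.1 u hcon)
  set e : Matrix ι ι F := ∑ i ∈ Finset.range M, G ^ i with he
  have hfix : G *ᵥ (e *ᵥ w) = e *ᵥ w := by
    have h1 : (G - 1) * e = 0 := by rw [he, mul_geom_sum, hGM, sub_self]
    rw [mulVec_mulVec, ← sub_eq_zero, ← sub_mulVec]
    rw [sub_mul, one_mul] at h1
    rw [h1, zero_mulVec]
  have hpow : ∀ i x y, QuadraticMap.polar (⇑Q) (G ^ i *ᵥ x) (G ^ i *ᵥ y) = QuadraticMap.polar (⇑Q) x y := by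
    intro i
    induction i with
    | zero => simp
    | succ i ih =>
      intro x y
      rw [pow_succ, ← mulVec_mulVec, ← mulVec_mulVec, ih, hG, polar_mulVec]
  have hui : ∀ i, G ^ i *ᵥ u = u := by
    intro i
    induction i with
    | zero => simp
    | succ i ih => rw [pow_succ, ← mulVec_mulVec, hu, ih]
  have hval : QuadraticMap.polar (⇑Q) u (e *ᵥ w) = M * QuadraticMap.polar (⇑Q) u w := by
    rw [he, sum_mulVec]
    change QuadraticMap.polarBilin Q u (∑ i ∈ Finset.range M, G ^ i *ᵥ w) = _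
    rw [map_sum, Finset.sum_congr rfl fun i _ => show QuadraticMap.polarBilin Q u (G ^ i *ᵥ w)
      = QuadraticMap.polar (⇑Q) u w by
        rw [QuadraticMap.polarBilin_apply_apply]
        conv_lhs => rw [← hui i, hpow]]
    simp
  by_cases hA : Q u = 0
  · by_cases hB : Q (e *ᵥ w) = 0
    · refine ⟨u + e *ᵥ w, ?_, by rw [mulVec_add, hu, hfix]⟩
      have : Q (u + e *ᵥ w) = M * QuadraticMap.polar (⇑Q) u w := by
        rw [← hval, QuadraticMap.polar, hA, hB, sub_zero, sub_zero]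
      rw [this]
      exact mul_ne_zero hM' hw
    · exact ⟨_, hB, hfix⟩
  · exact ⟨u, hA, hu⟩

omit [Fintype F] in
/-- Extending isometries along a similitude with adjoint projection. -/
theorem exists_ext {κ : Type} [Fintype κ] [DecidableEq κ] {Q' : QuadraticForm F (κ → F)}
    (I : (κ → F) →ₗ[F] (ι → F)) (P : (ι → F) →ₗ[F] (κ → F)) (c : F)
    (hPI : ∀ w, P (I w) = w) (hI : ∀ w, Q (I w) = c * Q' w)
    (hadj : ∀ x w, QuadraticMap.polar (⇑Q) x (I w) = c * QuadraticMap.polar (⇑Q') (P x) w) :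
    ∃ φ : ↥(Cfsg.isometryGroup F ⇑Q') →* ↥(Cfsg.isometryGroup F ⇑Q), Function.Injective φ ∧
      ∀ k x, mat Q (φ k) *ᵥ x = x + I (mat Q' k *ᵥ P x - P x) := by
  let f : ↥(Cfsg.isometryGroup F ⇑Q') →* Matrix ι ι F :=
    { toFun := fun k => LinearMap.toMatrix' (LinearMap.id + I ∘ₗ (Matrix.toLin' (mat Q' k) - LinearMap.id) ∘ₗ P)
      map_one' := by simp [Spinor.mat_one, Matrix.toLin'_one]
      map_mul' := fun k l => by
        rw [← LinearMap.toMatrix'_comp]
        congr 1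
        refine LinearMap.ext fun x => ?_
        simp only [LinearMap.add_apply, LinearMap.id_apply, LinearMap.comp_apply, LinearMap.sub_apply,
          Matrix.toLin'_apply, map_add, map_sub, hPI, Spinor.mat_mul, ← mulVec_mulVec, mulVec_add,
          mulVec_sub]
        abel }
  have hf : ∀ k x, f k *ᵥ x = x + I (mat Q' k *ᵥ P x - P x) := fun k x => by
    show LinearMap.toMatrix' _ *ᵥ x = _
    rw [LinearMap.toMatrix'_mulVec]
    simp [Matrix.toLin'_apply]
  refine ⟨(f.toHomUnits).codRestrict _ fun k => FieldEmb.mem_isometryGroup.2 fun x => ?_, ?_, hf⟩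
  · show Q (f k *ᵥ x) = Q x
    rw [hf, QuadraticMap.map_add Q, hI, hadj]
    have h1 := QuadraticMap.map_add Q' (P x) (mat Q' k *ᵥ P x - P x)
    rw [add_sub_cancel, quad_mulVec] at h1
    linear_combination -c * h1
  · intro k l hkl
    refine mat_ext Q' (Matrix.toLin'.injective (LinearMap.ext fun w => ?_))
    have h1 := congrArg (fun z => P (mat Q z *ᵥ I w)) hkl
    change P (f k *ᵥ I w) = P (f l *ᵥ I w) at h1
    simpa [hf, hPI, Matrix.toLin'_apply] using h1

omit [Fintype F] in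
theorem map_omega {κ : Type} [Fintype κ] [DecidableEq κ] {Q' : QuadraticForm F (κ → F)}
    (φ : ↥(Cfsg.isometryGroup F ⇑Q') →* ↥(Cfsg.isometryGroup F ⇑Q)) {k : ↥(Cfsg.isometryGroup F ⇑Q')}
    (hk : k ∈ Cfsg.Omega F ⇑Q') : φ k ∈ Cfsg.Omega F ⇑Q := by
  have : (Cfsg.Omega F ⇑Q').map φ ≤ Cfsg.Omega F ⇑Q := by
    rw [Cfsg.Omega, Cfsg.Omega, commutator_def, commutator_def, Subgroup.map_commutator]
    exact Subgroup.commutator_mono le_top le_top
  exact this ⟨k, hk, rfl⟩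

end General

section Odd

variable {F : Type*} [Field F]

local notation "q" => Fintype.card F

/-- The coordinates of `F ^ (2a+1)` inside `F ^ (2(a+b)+1)`. -/
def idxA (a b : ℕ) : Unit ⊕ (Fin a ⊕ Fin a) → Unit ⊕ (Fin (a + b) ⊕ Fin (a + b)) :=
  Sum.map id (Sum.map (Fin.castAdd b) (Fin.castAdd b))

/-- The inclusion into the first coordinates. -/
def inA (a b : ℕ) : (Unit ⊕ (Fin a ⊕ Fin a) → F) →ₗ[F] (Unit ⊕ (Fin (a + b) ⊕ Fin (a + b)) → F) where
  toFun x := Sum.elim (fun u => x (.inl u))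
    (Sum.elim (Fin.append (fun i => x (.inr (.inl i))) 0) (Fin.append (fun i => x (.inr (.inr i))) 0))
  map_add' x y := by
    funext j
    rcases j with u | i | i
    · simp
    · refine Fin.addCases (fun k => ?_) (fun k => ?_) i <;> simp
    · refine Fin.addCases (fun k => ?_) (fun k => ?_) i <;> simp
  map_smul' r x := by
    funext j
    rcases j with u | i | i
    · simp
    · refine Fin.addCases (fun k => ?_) (fun k => ?_) i <;> simp
    · refine Fin.addCases (fun k => ?_) (fun k => ?_) i <;> simp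

theorem funLeft_inA (a b : ℕ) (x : Unit ⊕ (Fin a ⊕ Fin a) → F) :
    LinearMap.funLeft F F (idxA a b) (inA a b x) = x := by
  funext j
  rcases j with u | i | i <;> simp [idxA, inA, LinearMap.funLeft]

theorem oddQ_inA (a b : ℕ) (x : Unit ⊕ (Fin a ⊕ Fin a) → F) :
    oddQ (a + b) F (inA a b x) = oddQ a F x := by
  simp [oddQ_apply, Cfsg.quadFormOdd, inA, Fin.sum_univ_add]

theorem polar_inA (a b : ℕ) (u : Unit ⊕ (Fin (a + b) ⊕ Fin (a + b)) → F) (x : Unit ⊕ (Fin a ⊕ Fin a) → F) :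
    QuadraticMap.polar (⇑(oddQ (a + b) F)) u (inA a b x) =
      QuadraticMap.polar (⇑(oddQ a F)) (LinearMap.funLeft F F (idxA a b) u) x := by
  simp [polar_odd, inA, idxA, LinearMap.funLeft, Fin.sum_univ_add]

/-- The fixed line of `v₀` plus the last hyperbolic pairs. -/
def inB (a b : ℕ) (v₀ : Unit ⊕ (Fin a ⊕ Fin a) → F) (c : F) :
    (Unit ⊕ (Fin b ⊕ Fin b) → F) →ₗ[F] (Unit ⊕ (Fin (a + b) ⊕ Fin (a + b)) → F) where
  toFun w := w (.inl ()) • inA a b v₀ + Sum.elim (fun _ => 0)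
    (Sum.elim (Fin.append 0 (fun i => w (.inr (.inl i)))) (Fin.append 0 (fun i => c * w (.inr (.inr i)))))
  map_add' x y := by
    funext j
    rcases j with u | i | i
    · simp [add_mul]
    · refine Fin.addCases (fun k => ?_) (fun k => ?_) i <;> simp [add_mul] <;> ring
    · refine Fin.addCases (fun k => ?_) (fun k => ?_) i <;> simp [add_mul] <;> ring
  map_smul' r x := by
    funext j
    rcases j with u | i | i
    · simp [mul_assoc]
    · refine Fin.addCases (fun k => ?_) (fun k => ?_) i <;> simp <;> ring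
    · refine Fin.addCases (fun k => ?_) (fun k => ?_) i <;> simp <;> ring

/-- The adjoint projection of `inB`. -/
noncomputable def prB (a b : ℕ) (v₀ : Unit ⊕ (Fin a ⊕ Fin a) → F) (c : F) :
    (Unit ⊕ (Fin (a + b) ⊕ Fin (a + b)) → F) →ₗ[F] (Unit ⊕ (Fin b ⊕ Fin b) → F) where
  toFun u := Sum.elim
    (fun _ => (2 * c)⁻¹ * QuadraticMap.polar (⇑(oddQ a F)) (LinearMap.funLeft F F (idxA a b) u) v₀)
    (Sum.elim (fun i => u (.inr (.inl (Fin.natAdd a i)))) (fun i => c⁻¹ * u (.inr (.inr (Fin.natAdd a i)))))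
  map_add' x y := by
    funext j
    rcases j with u | i | i <;> simp [QuadraticMap.polar_add_left, mul_add]
  map_smul' r x := by
    funext j
    rcases j with u | i | i
    · simp [QuadraticMap.polar_smul_left]
      ring
    · simp
    · simp
      ring

theorem oddQ_inB (a b : ℕ) (v₀ : Unit ⊕ (Fin a ⊕ Fin a) → F) (w : Unit ⊕ (Fin b ⊕ Fin b) → F) :
    oddQ (a + b) F (inB a b v₀ (oddQ a F v₀) w) = oddQ a F v₀ * oddQ b F w := by
  simp [oddQ_apply, Cfsg.quadFormOdd, inB, inA, Fin.sum_univ_add, mul_add, Finset.mul_sum, add_mul]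
  have e1 : ∀ i : Fin a, w (.inl ()) * v₀ (.inr (.inl i)) * (w (.inl ()) * v₀ (.inr (.inr i))) =
      w (.inl ()) ^ 2 * (v₀ (.inr (.inl i)) * v₀ (.inr (.inr i))) := fun i => by ring
  simp only [e1, ← Finset.mul_sum, ← Finset.sum_mul]
  ring_nf

theorem polar_inB (a b : ℕ) (v₀ : Unit ⊕ (Fin a ⊕ Fin a) → F) (h2 : (2 : F) ≠ 0) (hc : oddQ a F v₀ ≠ 0)
    (u : Unit ⊕ (Fin (a + b) ⊕ Fin (a + b)) → F) (w : Unit ⊕ (Fin b ⊕ Fin b) → F) :
    QuadraticMap.polar (⇑(oddQ (a + b) F)) u (inB a b v₀ (oddQ a F v₀) w) =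
      oddQ a F v₀ * QuadraticMap.polar (⇑(oddQ b F)) (prB a b v₀ (oddQ a F v₀) u) w := by
  have h1 : inB a b v₀ (oddQ a F v₀) w = w (.inl ()) • inA a b v₀ +
      inB a b v₀ (oddQ a F v₀) (Sum.elim (fun _ => 0) (w ∘ Sum.inr)) := by
    funext j
    rcases j with x | i | i
    · simp [inB]
    · simp [inB]
    · simp [inB]
  rw [h1, QuadraticMap.polar_add_right, QuadraticMap.polar_smul_right, polar_inA, smul_eq_mul]
  set z := QuadraticMap.polar (⇑(oddQ a F)) (LinearMap.funLeft F F (idxA a b) u) v₀ with hz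
  have hpr : prB a b v₀ (oddQ a F v₀) u (.inl ()) = (2 * oddQ a F v₀)⁻¹ * z := rfl
  rw [polar_odd, polar_odd, hpr]
  generalize hcv : oddQ a F v₀ = c at hc ⊢
  simp [inB, prB, inA, Fin.sum_univ_add, mul_add, Finset.mul_sum]
  field_simp
  congr 1
  exact Finset.sum_congr rfl fun i _ => by ring

theorem prB_inB (a b : ℕ) (v₀ : Unit ⊕ (Fin a ⊕ Fin a) → F) (h2 : (2 : F) ≠ 0) (hc : oddQ a F v₀ ≠ 0)
    (w : Unit ⊕ (Fin b ⊕ Fin b) → F) : prB a b v₀ (oddQ a F v₀) (inB a b v₀ (oddQ a F v₀) w) = w := by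
  have hr : LinearMap.funLeft F F (idxA a b) (inB a b v₀ (oddQ a F v₀) w) = w (.inl ()) • v₀ := by
    funext j
    rcases j with u | i | i <;> simp [idxA, inB, inA, LinearMap.funLeft]
  funext j
  rcases j with u | i | i
  · show (2 * oddQ a F v₀)⁻¹ * _ = _
    rw [hr, QuadraticMap.polar_smul_left, polar_self', smul_eq_mul]
    field_simp
  · simp [prB, inB, inA]
  · simp [prB, inB, inA, hc]

variable [Fintype F]

/-- Combining elements of coprime orders of `Ω (2a+1)` and `Ω (2b+1)` inside `Ω (2(a+b)+1)`. -/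
theorem exists_omega_sum {a b M M' : ℕ} (h2 : (2 : F) ≠ 0)
    {g : ↥(Cfsg.isometryGroup F ⇑(oddQ a F))} (hg : g ∈ Cfsg.Omega F ⇑(oddQ a F)) (hgo : orderOf g = M)
    (hM : (M : F) ≠ 0)
    {k : ↥(Cfsg.isometryGroup F ⇑(oddQ b F))} (hk : k ∈ Cfsg.Omega F ⇑(oddQ b F)) (hko : orderOf k = M')
    (hco : M.Coprime M') :
    ∃ x : ↥(Cfsg.isometryGroup F ⇑(oddQ (a + b) F)), x ∈ Cfsg.Omega F ⇑(oddQ (a + b) F) ∧
      orderOf x = M * M' := by
  obtain ⟨v, hv, hgv⟩ := exists_fixed h2 (oddQ_nondegenerate h2 a)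
    ⟨a, by simp; ring⟩ hg (hgo ▸ pow_orderOf_eq_one g) hM
  obtain ⟨α, hα, hαv⟩ := exists_ext (Q := oddQ (a + b) F) (Q' := oddQ a F) (inA a b)
    (LinearMap.funLeft F F (idxA a b)) 1 (funLeft_inA a b) (fun w => by rw [one_mul, oddQ_inA])
    (fun x w => by rw [one_mul, polar_inA])
  obtain ⟨β, hβ, hβv⟩ := exists_ext (Q := oddQ (a + b) F) (Q' := oddQ b F) (inB a b v (oddQ a F v))
    (prB a b v (oddQ a F v)) (oddQ a F v) (prB_inB a b v h2 hv) (oddQ_inB a b v) (polar_inB a b v h2 hv)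
  have h1 : ∀ u, LinearMap.funLeft F F (idxA a b) (inB a b v (oddQ a F v) u) = u (.inl ()) • v := by
    intro u
    funext j
    rcases j with z | i | i <;> simp [idxA, inB, inA, LinearMap.funLeft]
  have h3 : ∀ y, prB a b v (oddQ a F v) (inA a b (mat (oddQ a F) g *ᵥ y - y)) = 0 := by
    intro y
    funext j
    rcases j with z | i | i
    · show (2 * oddQ a F v)⁻¹ * _ = _
      rw [funLeft_inA, QuadraticMap.polar_sub_left]
      conv_lhs => arg 2; arg 1; rw [← hgv, polar_mulVec]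
      simp
    · simp [prB, inA]
    · simp [prB, inA]
  have hcomm : Commute (α g) (β k) := by
    refine mat_ext _ (Matrix.toLin'.injective (LinearMap.ext fun x => ?_))
    simp only [toLin'_apply, Spinor.mat_mul, ← mulVec_mulVec]
    have e1 : mat (oddQ (a + b) F) (α g) *ᵥ (mat (oddQ (a + b) F) (β k) *ᵥ x) =
        mat (oddQ (a + b) F) (α g) *ᵥ x + (mat (oddQ (a + b) F) (β k) *ᵥ x - x) := by
      rw [hαv, hαv, hβv, map_add, add_sub_cancel_left, mulVec_add, h1, mulVec_smul, hgv]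
      rw [add_sub_add_right_eq_sub]
      abel
    have e2 : mat (oddQ (a + b) F) (β k) *ᵥ (mat (oddQ (a + b) F) (α g) *ᵥ x) =
        mat (oddQ (a + b) F) (β k) *ᵥ x + (mat (oddQ (a + b) F) (α g) *ᵥ x - x) := by
      rw [hβv, hβv, hαv, map_add, add_sub_cancel_left, h3, add_zero]
      abel
    rw [e1, e2]
    abel
  refine ⟨α g * β k, mul_mem (map_omega α hg) (map_omega β hk), ?_⟩
  rw [hcomm.orderOf_mul_eq_mul_orderOf_of_coprime
    (by rw [orderOf_injective α hα, orderOf_injective β hβ, hgo, hko]; exact hco),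
    orderOf_injective α hα, orderOf_injective β hβ, hgo, hko]

/-- `Ω (2a+1)` inside `Ω (2(a+b)+1)`. -/
theorem exists_omega_embed {a b M : ℕ} {g : ↥(Cfsg.isometryGroup F ⇑(oddQ a F))}
    (hg : g ∈ Cfsg.Omega F ⇑(oddQ a F)) (hgo : orderOf g = M) :
    ∃ x : ↥(Cfsg.isometryGroup F ⇑(oddQ (a + b) F)), x ∈ Cfsg.Omega F ⇑(oddQ (a + b) F) ∧
      orderOf x = M := by
  obtain ⟨α, hα, -⟩ := exists_ext (Q := oddQ (a + b) F) (Q' := oddQ a F) (inA a b)
    (LinearMap.funLeft F F (idxA a b)) 1 (funLeft_inA a b) (fun w => by rw [one_mul, oddQ_inA])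
    (fun x w => by rw [one_mul, polar_inA])
  exact ⟨α g, map_omega α hg, by rw [orderOf_injective α hα, hgo]⟩

end Odd

end CfsgLib.PrimeGraphBC
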