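import Cfsg.Agent.PrimeGraphBC.Eigen

/-!
# Isometries with distinct eigenvalues and their commutants
-/

set_option autoImplicit false

namespace CfsgLib.PrimeGraphBC

open Matrix Polynomial

variable {F : Type*} [Field F] {ι : Type*} [Fintype ι] [DecidableEq ι]
  {K : Type*} [Field K] [IsAlgClosed K] [Algebra F K]

local notation "φ" => algebraMap F K

omit [IsAlgClosed K] in
theorem map_inj {A B : Matrix ι ι F} (h : A.map φ = B.map φ) : A = B :=
  Matrix.map_injective (algebraMap F K).injective h

theorem exists_diag {G : Matrix ι ι F} (hnd : (rootsK K G).Nodup) :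
    ∃ (P : Matrix ι ι K) (d : ι → K), IsUnit P ∧ Function.Injective d ∧
      G.map φ * P = P * diagonal d ∧ ∀ x, x ∈ rootsK K G ↔ ∃ i, d i = x := by
  classical
  set S := (rootsK K G).toFinset with hS
  have hc : Fintype.card ι = Fintype.card S := by
    rw [Fintype.card_coe, hS, Multiset.toFinset_card_of_nodup hnd, card_rootsK]
  let e : ι ≃ S := Fintype.equivOfCardEq hc
  have hv : ∀ i, ∃ v : ι → K, v ≠ 0 ∧ G.map φ *ᵥ v = (e i : K) • v := fun i =>
    exists_eigen K (Multiset.mem_toFinset.1 (e i).2)
  choose v hv0 hv using hv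
  have hd : Function.Injective fun i => (e i : K) := Subtype.coe_injective.comp e.injective
  refine ⟨(Matrix.of v)ᵀ, fun i => (e i : K), ?_, hd, ?_, fun x => ?_⟩
  · rw [← linearIndependent_cols_iff_isUnit]
    exact Module.End.eigenvectors_linearIndependent' (Matrix.toLin' (G.map φ)) _ hd v
      fun i => ⟨Module.End.mem_eigenspace_iff.2 (by rw [Matrix.toLin'_apply]; exact hv i), hv0 i⟩
  · ext i j
    rw [Matrix.mul_diagonal, transpose_apply, of_apply, mul_apply]
    have := congrFun (hv j) i
    rw [Pi.smul_apply, smul_eq_mul, mul_comm] at this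
    exact this
  · constructor
    · intro hx
      exact ⟨e.symm ⟨x, Multiset.mem_toFinset.2 hx⟩, by simp⟩
    · rintro ⟨i, rfl⟩
      exact Multiset.mem_toFinset.1 (e i).2

omit [IsAlgClosed K] in
theorem commute_diag {A P : Matrix ι ι K} {d : ι → K} (hP : IsUnit P) (hd : Function.Injective d)
    (hA : A * P = P * diagonal d) {X : Matrix ι ι K} (h : X * A = A * X) :
    ∃ x : ι → K, X * P = P * diagonal x := by
  obtain ⟨u, rfl⟩ := hP
  set Y := (u⁻¹ : (Matrix ι ι K)ˣ).val * (X * u.val) with hY
  have hXY : X * u.val = u.val * Y := by rw [hY, ← mul_assoc u.val, Units.mul_inv, one_mul]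
  have hc : diagonal d * Y = Y * diagonal d := by
    apply u.isUnit.mul_left_cancel
    rw [← mul_assoc, ← hA, mul_assoc, ← hXY, ← mul_assoc, ← h, mul_assoc, hA, ← mul_assoc, hXY,
      mul_assoc]
  refine ⟨fun i => Y i i, ?_⟩
  rw [hXY]
  congr 1
  ext i j
  by_cases hij : i = j
  · subst hij
    simp
  · rw [diagonal_apply_ne _ hij]
    have h2 := congrFun (congrFun hc i) j
    rw [diagonal_mul, mul_diagonal, mul_comm, ← sub_eq_zero, ← mul_sub, mul_eq_zero, sub_eq_zero] at h2
    exact h2.resolve_right (fun h3 => hij (hd h3))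

omit [IsAlgClosed K] in
theorem diag_pow {A P : Matrix ι ι K} {d : ι → K} (hA : A * P = P * diagonal d) (n : ℕ) :
    A ^ n * P = P * diagonal (d ^ n) := by
  rw [← diagonal_pow]
  exact ((show SemiconjBy P (diagonal d) A from hA.symm).pow_right n).eq.symm

omit [IsAlgClosed K] in
theorem pow_eq_one_iff_diag {X : Matrix ι ι F} {P : Matrix ι ι K} {x : ι → K} (hP : IsUnit P)
    (hX : X.map φ * P = P * diagonal x) (n : ℕ) : X ^ n = 1 ↔ ∀ i, x i ^ n = 1 := by
  have h : (X ^ n).map φ * P = P * diagonal (x ^ n) := by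
    rw [show (X ^ n).map φ = (X.map φ) ^ n from map_pow (algebraMap F K).mapMatrix X n]
    exact diag_pow hX n
  constructor
  · intro hn i
    rw [hn, Matrix.map_one _ (map_zero _) (map_one _), one_mul] at h
    have h2 : diagonal (x ^ n) = 1 := hP.mul_left_cancel (h.symm.trans (mul_one P).symm)
    simpa using congrFun (congrFun h2 i) i
  · intro hn
    refine map_inj (K := K) ?_
    rw [Matrix.map_one _ (map_zero _) (map_one _)]
    refine hP.mul_right_cancel ?_
    rw [h, one_mul, show x ^ n = fun _ => (1 : K) from funext hn, diagonal_one, mul_one]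

omit [IsAlgClosed K] in
theorem aeval_diag {A P : Matrix ι ι K} {d : ι → K} (hA : A * P = P * diagonal d) (f : K[X]) :
    aeval A f * P = P * diagonal (fun i => f.eval (d i)) := by
  induction f using Polynomial.induction_on' with
  | add f g hf hg =>
    rw [map_add, add_mul, hf, hg, ← mul_add, diagonal_add]
    simp
  | monomial n c =>
    rw [aeval_monomial, mul_assoc, diag_pow hA n, ← mul_assoc, Algebra.commutes, mul_assoc]
    congr 1
    ext i j
    rw [Matrix.algebraMap_eq_diagonal, diagonal_mul_diagonal]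
    by_cases hij : i = j
    · subst hij
      simp
    · simp [diagonal_apply_ne _ hij]

omit [IsAlgClosed K] in
theorem pairing {G B X : Matrix ι ι F} {P : Matrix ι ι K} {d x : ι → K} (hP : IsUnit P)
    (hd : Function.Injective d) (hG : G.map φ * P = P * diagonal d) (hX : X.map φ * P = P * diagonal x)
    (hB : IsUnit B) (hGB : Gᵀ * B * G = B) (hXB : Xᵀ * B * X = B) {i j : ι} (hij : d i * d j = 1) :
    x i * x j = 1 := by
  set M := Pᵀ * B.map φ * P with hM
  have key : ∀ {Y : Matrix ι ι F} {y : ι → K}, Y.map φ * P = P * diagonal y → Yᵀ * B * Y = B →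
      ∀ a b, y a * M a b * y b = M a b := by
    intro Y y hY hYB a b
    have h1 := congrArg (fun T => Pᵀ * T.map φ * P) hYB
    simp only [Matrix.map_mul] at h1
    rw [show Yᵀ.map φ = (Y.map φ)ᵀ from rfl] at h1
    have h2 : Pᵀ * ((Y.map φ)ᵀ * B.map φ * Y.map φ) * P = diagonal y * M * diagonal y := by
      rw [show Pᵀ * ((Y.map φ)ᵀ * B.map φ * Y.map φ) * P
          = (Pᵀ * (Y.map φ)ᵀ) * B.map φ * (Y.map φ * P) by simp only [mul_assoc],
        ← transpose_mul, hY, transpose_mul, diagonal_transpose, hM]
      simp only [mul_assoc]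
    rw [h2] at h1
    have := congrFun (congrFun h1 a) b
    rw [mul_diagonal, diagonal_mul, hM] at this
    exact this
  have hu : IsUnit M := (((isUnit_transpose (A := P)).2 hP).mul (hB.map (algebraMap F K).mapMatrix)).mul hP
  obtain ⟨k, hk⟩ : ∃ k, M i k ≠ 0 := by
    by_contra hcon
    push Not at hcon
    have := (Matrix.isUnit_iff_isUnit_det M).1 hu
    rw [det_eq_zero_of_row_eq_zero i hcon] at this
    exact not_isUnit_zero this
  have h1 : d i * d k = 1 := by
    have := key hG hGB i k
    exact mul_right_cancel₀ hk (by rw [one_mul]; linear_combination this)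
  obtain rfl : k = j := hd (mul_left_cancel₀ (left_ne_zero_of_mul_eq_one h1) (h1.trans hij.symm))
  have := key hX hXB i k
  exact mul_right_cancel₀ hk (by rw [one_mul]; linear_combination this)

section Finite

variable [Fintype F]

omit [IsAlgClosed K] in
theorem exists_of_pow_card {c : K} (h : c ^ Fintype.card F = c) : ∃ a : F, φ a = c := by
  classical
  have hmap : (X ^ Fintype.card F - X : K[X]) = ((X ^ Fintype.card F - X : F[X]).map φ) := by simp
  have h1 : c ∈ (X ^ Fintype.card F - X : K[X]).roots := by
    rw [mem_roots (FiniteField.X_pow_card_sub_X_ne_zero _ Fintype.one_lt_card)]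
    simp [h]
  rw [hmap, ← Polynomial.roots_map_of_injective_of_card_eq_natDegree (algebraMap F K).injective
    (by rw [FiniteField.roots_X_pow_card_sub_X, FiniteField.X_pow_card_sub_X_natDegree_eq _
      Fintype.one_lt_card]; rfl)] at h1
  obtain ⟨a, -, ha⟩ := Multiset.mem_map.1 h1
  exact ⟨a, ha⟩

omit [IsAlgClosed K] in
theorem frob_compat {G X : Matrix ι ι F} {P : Matrix ι ι K} {d x : ι → K} (hP : IsUnit P)
    (hd : Function.Injective d) (hG : G.map φ * P = P * diagonal d) (hX : X.map φ * P = P * diagonal x)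
    {i j : ι} (hij : d j = d i ^ Fintype.card F) : x j = x i ^ Fintype.card F := by
  let σ : K →+* K := (FiniteField.frobeniusAlgHom F K).toRingHom
  have hσ : ∀ z : K, σ z = z ^ Fintype.card F := fun z => rfl
  have key : ∀ {Y : Matrix ι ι F} {y : ι → K}, Y.map φ * P = P * diagonal y →
      Y.map φ * P.map σ = P.map σ * diagonal (fun i => y i ^ Fintype.card F) := by
    intro Y y hY
    have h1 := congrArg (fun T => T.map σ) hY
    simp only [Matrix.map_mul] at h1
    rw [Matrix.diagonal_map (map_zero σ)] at h1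
    have h2 : (Y.map φ).map σ = Y.map φ := by
      ext a b
      exact (FiniteField.frobeniusAlgHom F K).commutes (Y a b)
    rw [h2] at h1
    exact h1
  obtain ⟨u, rfl⟩ := hP
  set Y := (u⁻¹ : (Matrix ι ι K)ˣ).val * u.val.map σ with hY
  have hYu : IsUnit Y := u⁻¹.isUnit.mul (u.isUnit.map σ.mapMatrix)
  have conj : ∀ {Z : Matrix ι ι F} {z : ι → K}, Z.map φ * u.val = u.val * diagonal z →
      ∀ a b, z a * Y a b = Y a b * z b ^ Fintype.card F := by
    intro Z z hZ a b
    have h1 : diagonal z * Y = Y * diagonal (fun i => z i ^ Fintype.card F) := by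
      apply u.isUnit.mul_left_cancel
      rw [← mul_assoc, ← hZ, mul_assoc, hY, ← mul_assoc u.val, Units.mul_inv, one_mul, key hZ,
        ← mul_assoc u.val, ← mul_assoc u.val, Units.mul_inv, one_mul]
    have := congrFun (congrFun h1 a) b
    rwa [diagonal_mul, mul_diagonal] at this
  obtain ⟨k, hk⟩ : ∃ k, Y k i ≠ 0 := by
    by_contra hcon
    push Not at hcon
    have := (Matrix.isUnit_iff_isUnit_det Y).1 hYu
    rw [det_eq_zero_of_column_eq_zero i hcon] at this
    exact not_isUnit_zero this
  have h1 : d k = d i ^ Fintype.card F := mul_right_cancel₀ hk (by linear_combination conj hG k i)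
  obtain rfl : k = j := hd (h1.trans hij.symm)
  exact mul_right_cancel₀ hk (by linear_combination conj hX k i)

/-- A function on the eigenvalues compatible with Frobenius and inversion gives an isometry. -/
theorem exists_transfer {G B : Matrix ι ι F} (hB : IsUnit B) (hGB : Gᵀ * B * G = B)
    (hnd : (rootsK K G).Nodup) (x : K → K) (hq : ∀ l ∈ rootsK K G, x (l ^ Fintype.card F) = x l ^ Fintype.card F)
    (hi : ∀ l ∈ rootsK K G, x l⁻¹ * x l = 1) :
    ∃ X : Matrix ι ι F, X * G = G * X ∧ Xᵀ * B * X = B ∧
      ∀ n, X ^ n = 1 ↔ ∀ l ∈ rootsK K G, x l ^ n = 1 := by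
  classical
  obtain ⟨P, d, hP, hd, hG, hR⟩ := exists_diag hnd
  set S := (rootsK K G).toFinset
  set f := Lagrange.interpolate S id x with hf
  have hinj : Set.InjOn (id : K → K) S := fun a _ b _ h => h
  let σ : K →+* K := (FiniteField.frobeniusAlgHom F K).toRingHom
  have hfix : f.map σ = f := by
    rw [hf]
    refine (Lagrange.eq_interpolate_iff x hinj).1 ⟨?_, fun l hl => ?_⟩
    · exact lt_of_le_of_lt degree_map_le (Lagrange.degree_interpolate_lt _ hinj)
    · -- every root is a Frobenius image
      obtain ⟨m, hm, rfl⟩ : ∃ m ∈ S, σ m = l := by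
        have hsub : S.image σ ⊆ S := fun z hz => by
          obtain ⟨m, hm, rfl⟩ := Finset.mem_image.1 hz
          exact Multiset.mem_toFinset.2 (frob_mem K G (Multiset.mem_toFinset.1 hm))
        have : S.image σ = S := Finset.eq_of_subset_of_card_le hsub
          (by rw [Finset.card_image_of_injective _ σ.injective])
        rw [← this] at hl
        exact Finset.mem_image.1 hl
      show eval (σ m) (f.map σ) = x (σ m)
      rw [eval_map, eval₂_at_apply]
      have := Lagrange.eval_interpolate_at_node x hinj hm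
      simp only [id] at this
      rw [hf, this]
      exact (hq m (Multiset.mem_toFinset.1 hm)).symm
  have hlift : f ∈ Polynomial.lifts φ := by
    rw [lifts_iff_coeff_lifts]
    intro n
    have := congrArg (fun g => coeff g n) hfix
    simp only [coeff_map] at this
    exact exists_of_pow_card this
  obtain ⟨g, hg⟩ := (Polynomial.mem_lifts f).1 hlift
  set X := aeval G g with hXdef
  have hXd : X.map φ * P = P * diagonal (fun i => x (d i)) := by
    have h1 : X.map φ = aeval (G.map φ) f := by
      rw [← hg, aeval_map_algebraMap, hXdef]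
      exact (Polynomial.aeval_algHom_apply (Algebra.ofId F K).mapMatrix G g).symm
    rw [h1, aeval_diag hG f]
    congr 2
    ext i
    have := Lagrange.eval_interpolate_at_node x hinj (i := d i)
      (Multiset.mem_toFinset.2 ((hR _).2 ⟨i, rfl⟩))
    rw [← hf] at this
    exact this
  refine ⟨X, ?_, ?_, fun n => ?_⟩
  · have h := ((Commute.all g Polynomial.X).map (aeval G)).eq
    rwa [aeval_X] at h
  · apply map_inj (K := K)
    refine ((isUnit_transpose (A := P)).2 hP).mul_left_cancel (hP.mul_right_cancel ?_)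
    rw [Matrix.map_mul, Matrix.map_mul, show Xᵀ.map φ = (X.map φ)ᵀ from rfl,
      show Pᵀ * ((X.map φ)ᵀ * B.map φ * X.map φ) * P
        = (Pᵀ * (X.map φ)ᵀ) * B.map φ * (X.map φ * P) by simp only [mul_assoc],
      ← transpose_mul, hXd, transpose_mul, diagonal_transpose,
      show diagonal (fun i => x (d i)) * Pᵀ * B.map φ * (P * diagonal (fun i => x (d i)))
        = diagonal (fun i => x (d i)) * (Pᵀ * B.map φ * P) * diagonal (fun i => x (d i)) by
          simp only [mul_assoc]]
    ext a b
    rw [mul_diagonal, diagonal_mul]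
    by_cases h0 : (Pᵀ * B.map φ * P) a b = 0
    · simp [h0]
    · have h1 := congrArg (fun T => Pᵀ * T.map φ * P) hGB
      simp only [Matrix.map_mul] at h1
      rw [show Gᵀ.map φ = (G.map φ)ᵀ from rfl,
        show Pᵀ * ((G.map φ)ᵀ * B.map φ * G.map φ) * P
          = (Pᵀ * (G.map φ)ᵀ) * B.map φ * (G.map φ * P) by simp only [mul_assoc],
        ← transpose_mul, hG, transpose_mul, diagonal_transpose,
        show diagonal d * Pᵀ * B.map φ * (P * diagonal d)
          = diagonal d * (Pᵀ * B.map φ * P) * diagonal d by simp only [mul_assoc]] at h1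
      have h2 := congrFun (congrFun h1 a) b
      rw [mul_diagonal, diagonal_mul] at h2
      have h3 : d a * d b = 1 := mul_right_cancel₀ h0 (by linear_combination h2)
      have h4 := hi (d b) ((hR _).2 ⟨b, rfl⟩)
      rw [← eq_inv_of_mul_eq_one_left h3] at h4
      linear_combination ((Pᵀ * B.map φ * P) a b) * h4
  · rw [pow_eq_one_iff_diag hP hXd]
    constructor
    · intro h l hl
      obtain ⟨i, rfl⟩ := (hR l).1 hl
      exact h i
    · exact fun h i => h _ ((hR _).2 ⟨i, rfl⟩)

end Finite

end CfsgLib.PrimeGraphBC
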