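import Cfsg.Agent.PrimeGraphBC.OrthBase
import Cfsg.Agent.Forms.SymplecticBasis
import Cfsg.Agent.Forms.PlusType
import Cfsg.Agent.TwoRank.Orthogonal

/-!
# The discriminant of the support of an isometry with a full eigenvalue orbit
-/

set_option autoImplicit false

namespace CfsgLib.PrimeGraphBC

open Matrix CfsgLib.Spinor CfsgLib.StdForms CfsgLib.Forms

section Alt

variable {F : Type*} [Field F]

/-- The determinant of an alternating matrix is a square. -/
theorem isSquare_det_alt (h2 : (2 : F) ≠ 0) {κ : Type*} [Fintype κ] [DecidableEq κ] (N : Matrix κ κ F)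
    (hN : Nᵀ = -N) (hd : N.det ≠ 0) : IsSquare N.det := by
  classical
  set B : LinearMap.BilinForm F (κ → F) := Matrix.toBilin' N with hB
  have hA : B.IsAlt := fun x => by
    have h1 : B x x = - B x x := by
      rw [hB, Matrix.toBilin'_apply', ← dotProduct_neg, ← neg_mulVec, ← hN, mulVec_transpose,
        dotProduct_comm x (x ᵥ* N), dotProduct_mulVec]
    have h3 : (2 : F) * B x x = 0 := by linear_combination h1
    exact (mul_eq_zero.1 h3).resolve_left h2
  have hnd : B.Nondegenerate :=
    LinearMap.BilinForm.nondegenerate_toBilin'_iff_det_ne_zero.2 hd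
  obtain ⟨m, b, h12, h11, h22⟩ := Forms.exists_symplectic_basis_nondeg B hA hnd
  obtain ⟨t, ht, hdet⟩ := Forms.det_toMatrix₂_change B (Pi.basisFun F κ) b
  have hJ : LinearMap.BilinForm.toMatrix b B = fromBlocks 0 1 (-1) 0 := by
    ext (i | i) (j | j) <;> simp only [LinearMap.BilinForm.toMatrix_apply, fromBlocks_apply₁₁,
      fromBlocks_apply₁₂, fromBlocks_apply₂₁, fromBlocks_apply₂₂]
    · simpa using h11 i j
    · simpa [Matrix.one_apply] using h12 i j
    · rw [← LinearMap.IsAlt.neg hA, h12 j i]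
      simp [Matrix.one_apply, eq_comm]
    · simpa using h22 i j
  have hJdet : (fromBlocks 0 1 (-1) 0 : Matrix (Fin m ⊕ Fin m) (Fin m ⊕ Fin m) F).det = 1 := by
    rw [Forms.det_fromBlocks_zero₁₁', det_one, det_neg, det_one, one_mul, mul_one, ← pow_add,
      ← two_mul, pow_mul, neg_one_sq, one_pow]
  have hNm : LinearMap.BilinForm.toMatrix (Pi.basisFun F κ) B = N := by
    rw [LinearMap.BilinForm.toMatrix_basisFun, hB]
    exact LinearMap.BilinForm.toMatrix'_toBilin' N
  rw [hJ, hJdet, hNm] at hdet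
  exact ⟨t⁻¹, by field_simp; linear_combination -hdet⟩

variable [Fintype F]

theorem gram_det_odd (m : ℕ) : (FormDiscr.gram (oddQ m F)).det = 2 * (-1 : F) ^ m := by
  have h : FormDiscr.gram (oddQ m F) =
      fromBlocks ((2 : F) • (1 : Matrix Unit Unit F)) 0 0 (FormDiscr.gram (plusQ m F)) := by
    ext (i | i) (j | j)
    · simp [FormDiscr.gram, polar_odd, Pi.single_apply]
    · rcases j with j | j <;> simp [FormDiscr.gram, polar_odd, Pi.single_apply]
    · rcases i with i | i <;> simp [FormDiscr.gram, polar_odd, Pi.single_apply]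
    · rcases i with i | i <;> rcases j with j | j <;>
        simp [FormDiscr.gram, polar_odd, polar_plus, Pi.single_apply]
  rw [h, det_fromBlocks_zero₂₁, TwoRank.gram_det_plus]
  simp


/-- If `-r_v` lies in `Ω (2m+1)` then `(-1)^m Q v` is a square. -/
theorem isSquare_of_neg_refl (h2 : (2 : F) ≠ 0) {m : ℕ} {g : ↥(Cfsg.isometryGroup F ⇑(oddQ m F))}
    (hg : g ∈ Cfsg.Omega F ⇑(oddQ m F)) {v : Unit ⊕ (Fin m ⊕ Fin m) → F} (hv : oddQ m F v ≠ 0)
    (hgv : mat (oddQ m F) g = -Cfsg.reflectionMatrix (⇑(oddQ m F)) v) :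
    IsSquare ((-1 : F) ^ m * oddQ m F v) := by
  classical
  have hQ := oddQ_nondegenerate h2 m
  obtain ⟨b0, hb0, hb00⟩ := exists_orthogonal_anisotropic_basis h2 hQ
  let e := Fintype.equivFinOfCardEq (Module.finrank_fintype_fun_eq_card F (η := Unit ⊕ (Fin m ⊕ Fin m))).symm
  let b := b0.reindex e.symm
  have hb : ∀ i j, i ≠ j → QuadraticMap.polar (⇑(oddQ m F)) (b i) (b j) = 0 := fun i j hij => by
    simp only [b, Module.Basis.reindex_apply, Equiv.symm_symm]
    exact hb0 _ _ fun h => hij (e.injective h)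
  have hbq : ∀ i, oddQ m F (b i) ≠ 0 := fun i => by
    simp only [b, Module.Basis.reindex_apply, Equiv.symm_symm]
    exact hb00 _
  set l := (Finset.univ : Finset (Unit ⊕ (Fin m ⊕ Fin m))).toList with hl
  have hprod : ((l.map b).map (fun v => Cfsg.reflectionMatrix (⇑(oddQ m F)) v)).prod = -1 := by
    refine Matrix.toLin'.injective (b.ext fun j => ?_)
    simp only [toLin'_apply, neg_mulVec, one_mulVec]
    suffices h : ∀ l : List (Unit ⊕ (Fin m ⊕ Fin m)), l.Nodup →
        ((l.map b).map (fun v => Cfsg.reflectionMatrix (⇑(oddQ m F)) v)).prod *ᵥ b j =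
          if j ∈ l then -b j else b j by
      simpa [hl] using h _ (Finset.nodup_toList Finset.univ)
    intro l
    induction l with
    | nil => simp
    | cons i l ih =>
      intro hl'
      obtain ⟨hil, hl'⟩ := List.nodup_cons.1 hl'
      rw [List.map_cons, List.map_cons, List.prod_cons, ← mulVec_mulVec, ih hl']
      rcases eq_or_ne j i with rfl | hji
      · rw [if_neg hil, if_pos List.mem_cons_self, TwoRank.reflection_mulVec_basis (fun i => b i) hb hbq, if_pos rfl]
      · have : (j ∈ i :: l) ↔ j ∈ l := by simp [hji]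
        simp only [this]
        split_ifs <;> simp [mulVec_neg, TwoRank.reflection_mulVec_basis (fun i => b i) hb hbq, hji.symm]
  have hvs : IsReflProd (oddQ m F) g (l.map b ++ [v]) := by
    refine ⟨fun w hw => ?_, ?_⟩
    · rcases List.mem_append.1 hw with hw | hw
      · obtain ⟨i, -, rfl⟩ := List.mem_map.1 hw
        exact hbq i
      · rw [List.mem_singleton.1 hw]
        exact hv
    · rw [List.map_append, List.prod_append, hprod, hgv]
      simp
  obtain ⟨-, hsq⟩ := (mem_omega_iff h2 hQ hvs).1 hg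
  rw [List.map_append, List.prod_append, List.map_map, hl, Finset.prod_map_toList] at hsq
  simp only [List.map_cons, List.map_nil, List.prod_cons, List.prod_nil, mul_one, Function.comp_apply] at hsq
  obtain ⟨d, hd, hpe⟩ := TwoRank.prod_polar_eq b hb
  rw [Finset.prod_congr rfl (fun i _ => polar_self' (oddQ m F) (b i)), Finset.prod_mul_distrib,
    Finset.prod_const, Finset.card_univ, gram_det_odd] at hpe
  have hcard : Fintype.card (Unit ⊕ (Fin m ⊕ Fin m)) = 2 * m + 1 := by simp; ring
  rw [hcard, pow_succ, pow_mul', mul_comm] at hpe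
  obtain ⟨y, hy⟩ := hsq
  refine ⟨y * 2 ^ m / d, ?_⟩
  have h2m : (2 : F) ^ m ≠ 0 := pow_ne_zero _ h2
  field_simp
  apply mul_left_cancel₀ h2
  linear_combination (-oddQ m F v) * hpe + 2 * (2 ^ m) ^ 2 * hy

end Alt

end CfsgLib.PrimeGraphBC
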