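import Cfsg.Agent.PrimeGraphBC.Disc

/-!
# Commuting involutions of elements with a full eigenvalue orbit in `Ω (2n+1)`
-/

set_option autoImplicit false

namespace CfsgLib.PrimeGraphBC

open Matrix CfsgLib.Spinor CfsgLib.StdForms CfsgLib.Forms

variable {F : Type*} [Field F]

section Gram

variable {ι : Type} [Fintype ι] [DecidableEq ι] {Q : QuadraticForm F (ι → F)}
  {K : Type*} [Field K] [Algebra F K] {G : Matrix ι ι F} {v : ι → F} {P : Matrix ι ι K} {d : ι → K}
  {j : ι} {w : K}

local notation "φ" => algebraMap F K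

theorem gram_symm : (FormDiscr.gram Q)ᵀ = FormDiscr.gram Q := by
  ext a b
  exact QuadraticMap.polar_comm ..

/-- The covector of a fixed vector in an eigenbasis. -/
theorem covec_eigen (hG : Gᵀ * FormDiscr.gram Q * G = FormDiscr.gram Q) (hGv : G *ᵥ v = v)
    (hA : G.map φ * P = P * diagonal d) (hd : Function.Injective d) (hj : d j = 1)
    (hv : (fun a => φ (v a)) = w • Pᵀ j) :
    (∀ i, i ≠ j → ((fun a => φ ((FormDiscr.gram Q *ᵥ v) a)) ᵥ* P) i = 0) ∧
      w * ((fun a => φ ((FormDiscr.gram Q *ᵥ v) a)) ᵥ* P) j = φ (2 * Q v) := by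
  set u := FormDiscr.gram Q *ᵥ v with hu
  have huG : u ᵥ* G = u := by
    conv_rhs => rw [hu, ← hG, ← mulVec_mulVec, hGv, ← mulVec_mulVec, ← hu]
    rw [mulVec_transpose]
  set z := (fun a => φ (u a)) ᵥ* P with hz
  have h1 : z ᵥ* diagonal d = z := by
    rw [hz, vecMul_vecMul, ← hA, ← vecMul_vecMul]
    congr 1
    funext b
    rw [show (fun a => φ (u a)) = φ ∘ u from rfl, ← RingHom.map_vecMul, huG]
  refine ⟨fun i hi => ?_, ?_⟩
  · have := congrFun h1 i
    rw [vecMul_diagonal] at this
    have h3 : z i * (d i - 1) = 0 := by linear_combination this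
    exact (mul_eq_zero.1 h3).resolve_right (sub_ne_zero.2 fun h => hi (hd (h.trans hj.symm)))
  · rw [← polar_self' Q v, polar_eq_dot, ← hu, hz]
    show w * ((fun a => φ (u a)) ⬝ᵥ Pᵀ j) = _
    rw [← smul_eq_mul, ← dotProduct_smul, ← hv, dotProduct_comm]
    simp [dotProduct, map_sum, map_mul]

/-- `det (2 Q v · W)` is a square for `W = D G - Gᵀ D + u uᵀ / (2 Q v)`. -/
theorem exists_disc (h2 : (2 : F) ≠ 0) (hQ : (QuadraticMap.polarBilin Q).Nondegenerate)
    (hG : Gᵀ * FormDiscr.gram Q * G = FormDiscr.gram Q) (hGv : G *ᵥ v = v) (hv0 : Q v ≠ 0)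
    (hP : IsUnit P) (hA : G.map φ * P = P * diagonal d) (hd : Function.Injective d) (hj : d j = 1)
    (hd0 : ∀ i, d i ≠ 0) (hne : ∀ i, i ≠ j → d i * d i ≠ 1) (hv : (fun a => φ (v a)) = w • Pᵀ j) :
    ∃ z : F, IsSquare (2 * Q v * z) ∧
      φ z = φ (FormDiscr.gram Q).det * ∏ i ∈ Finset.univ.erase j, (d i - (d i)⁻¹) := by
  classical
  set D := FormDiscr.gram Q with hD
  set u := D *ᵥ v with hu
  obtain ⟨hz0, hzj⟩ := covec_eigen hG hGv hA hd hj hv
  rw [← hD, ← hu] at hz0 hzj
  set c2 := 2 * Q v with hc2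
  have hc20 : c2 ≠ 0 := mul_ne_zero h2 hv0
  set N := D * G - Gᵀ * D with hN
  set W := N + c2⁻¹ • vecMulVec u u with hW
  have hDs : Dᵀ = D := gram_symm
  have hNs : Nᵀ = -N := by
    rw [hN, transpose_sub, transpose_mul, transpose_mul, transpose_transpose, hDs, neg_sub]
  have huv : u ⬝ᵥ v = c2 := by
    rw [hc2, ← polar_self' Q v, polar_eq_dot, ← hD, ← hu, dotProduct_comm]
  have hNv : N *ᵥ v = 0 := by
    have h3 : Gᵀ *ᵥ u = u := by
      conv_rhs => rw [hu, ← hG, ← mulVec_mulVec, hGv, ← mulVec_mulVec, ← hu]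
    rw [hN, sub_mulVec, ← mulVec_mulVec, ← mulVec_mulVec, hGv, ← hu, h3, sub_self]
  -- the bordered alternating matrix
  set big : Matrix (ι ⊕ Unit) (ι ⊕ Unit) F :=
    fromBlocks N (replicateCol Unit u) (-replicateRow Unit u) 0 with hbig
  have hbs : bigᵀ = -big := by
    rw [hbig, fromBlocks_transpose, fromBlocks_neg, hNs, transpose_replicateCol, transpose_neg,
      transpose_replicateRow, transpose_zero, neg_zero, neg_neg]
  have hfac : big * (fromBlocks 1 0 (c2⁻¹ • replicateRow Unit u) 1 * fromBlocks 1 (-replicateCol Unit v) 0 1) =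
      fromBlocks W 0 (-replicateRow Unit u) (c2 • 1) := by
    have hWv : W *ᵥ v = u := by
      rw [hW, add_mulVec, hNv, zero_add, smul_mulVec, vecMulVec_mulVec, huv]
      rw [show (MulOpposite.op c2) • u = c2 • u from op_smul_eq_smul c2 u, smul_smul, inv_mul_cancel₀ hc20, one_smul]
    rw [hbig, fromBlocks_multiply, fromBlocks_multiply]
    simp only [Matrix.mul_one, Matrix.one_mul, Matrix.mul_zero, Matrix.zero_mul, add_zero, zero_add]
    have e1 : replicateCol Unit u * (c2⁻¹ • replicateRow Unit u) = c2⁻¹ • vecMulVec u u := by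
      rw [Matrix.mul_smul]
      congr 1
      ext a b
      simp [mul_apply, vecMulVec_apply]
    have e2 : W * replicateCol Unit v = replicateCol Unit u := by
      rw [← replicateCol_mulVec, hWv]
    simp only [Matrix.mul_one, Matrix.one_mul, Matrix.mul_zero, Matrix.zero_mul, add_zero, zero_add, e1, ← hW]
    refine fromBlocks_inj.2 ⟨rfl, ?_, rfl, ?_⟩
    · rw [Matrix.mul_add, Matrix.mul_one, ← Matrix.mul_assoc, e1, ← add_assoc, ← Matrix.add_mul, ← hW,
        Matrix.mul_neg, e2, neg_add_cancel]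
    · ext a b
      simp [mul_apply, ← huv, dotProduct]
  have hdetbig : big.det = c2 * W.det := by
    have := congrArg Matrix.det hfac
    rw [det_mul, det_mul, det_fromBlocks_zero₁₂, det_fromBlocks_zero₂₁, det_fromBlocks_zero₁₂] at this
    simpa [mul_comm] using this
  -- `W` in the eigenbasis
  have hWP : W.map φ * P = D.map φ * P * diagonal (fun i => if i = j then 1 else d i - (d i)⁻¹) := by
    have e1 : (Gᵀ).map φ * D.map φ * P = D.map φ * P * diagonal (fun i => (d i)⁻¹) := by
      have h3 := congrArg (fun T => T.map φ * P * diagonal (fun i => (d i)⁻¹)) hG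
      simp only [Matrix.map_mul, ← hD] at h3
      rw [← h3, mul_assoc ((Gᵀ).map φ * D.map φ), hA, ← mul_assoc ((Gᵀ).map φ * D.map φ),
        mul_assoc _ (diagonal d), diagonal_mul_diagonal]
      rw [show (fun i => d i * (d i)⁻¹) = fun _ => (1 : K) from funext fun i => mul_inv_cancel₀ (hd0 i),
        diagonal_one, mul_one]
    have e2 : N.map φ * P = D.map φ * P * diagonal (fun i => d i - (d i)⁻¹) := by
      rw [hN, Matrix.map_sub _ (map_sub φ), Matrix.map_mul, Matrix.map_mul, sub_mul, mul_assoc, hA, e1,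
        ← mul_assoc, ← mul_sub]
      congr 1
      exact diagonal_sub _ _
    have e3 : (c2⁻¹ • vecMulVec u u).map φ * P =
        D.map φ * P * diagonal (fun i => if i = j then 1 else 0) := by
      ext a b
      rw [mul_diagonal, mul_apply]
      simp only [Matrix.map_apply, Matrix.smul_apply, smul_eq_mul, vecMulVec_apply, map_mul, mul_assoc,
        ← Finset.mul_sum]
      change φ c2⁻¹ * (φ (u a) * ((fun x => φ (u x)) ᵥ* P) b) = _
      rcases eq_or_ne b j with rfl | hb
      · rw [if_pos rfl, mul_one]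
        have h3 : φ (u a) = w * (D.map φ * P) a b := by
          rw [hu, RingHom.map_mulVec φ D v a, show φ ∘ v = w • Pᵀ b from hv, mulVec_smul]
          simp [mul_apply, mulVec, dotProduct, transpose_apply]
        rw [h3, map_inv₀]
        have hne0 : φ c2 ≠ 0 := (_root_.map_ne_zero φ).2 hc20
        field_simp
        rw [mul_comm w, mul_assoc, hzj]
        ring
      · rw [if_neg hb, hz0 b hb]
        simp
    rw [hW, Matrix.map_add _ (map_add φ), add_mul, e2, e3, ← mul_add, diagonal_add]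
    congr 2
    funext i
    rcases eq_or_ne i j with rfl | hi <;> simp [*]
  have hdet : φ W.det = φ D.det * ∏ i ∈ Finset.univ.erase j, (d i - (d i)⁻¹) := by
    have := congrArg Matrix.det hWP
    rw [det_mul, det_mul, det_mul, det_diagonal] at this
    have hPd : P.det ≠ 0 := ((Matrix.isUnit_iff_isUnit_det P).1 hP).ne_zero
    rw [show (W.map φ) = RingHom.mapMatrix φ W from rfl, show (D.map φ) = RingHom.mapMatrix φ D from rfl,
      ← RingHom.map_det, ← RingHom.map_det] at this
    rw [← Finset.mul_prod_erase _ _ (Finset.mem_univ j), if_pos rfl, one_mul] at this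
    rw [Finset.prod_congr rfl fun i hi => if_neg (Finset.ne_of_mem_erase hi)] at this
    exact mul_right_cancel₀ hPd (by linear_combination this)
  have hW0 : W.det ≠ 0 := by
    intro h0
    rw [h0, map_zero] at hdet
    rcases mul_eq_zero.1 hdet.symm with h | h
    · exact FormDiscr.gram_det_ne_zero Q hQ ((_root_.map_eq_zero φ).1 h)
    · obtain ⟨i, hi, h3⟩ := Finset.prod_eq_zero_iff.1 h
      rw [sub_eq_zero] at h3
      refine hne i (Finset.ne_of_mem_erase hi) ?_
      conv_lhs => arg 1; rw [h3]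
      exact inv_mul_cancel₀ (hd0 i)
  exact ⟨W.det, hdetbig ▸ isSquare_det_alt h2 big hbs (hdetbig ▸ mul_ne_zero hc20 hW0), hdet⟩

end Gram

section Main

variable [Fintype F]

local notation "q" => Fintype.card F
local notation "K" => AlgebraicClosure F

open Classical in
/-- The product over an orbit of `x - x⁻¹`. -/
theorem prod_orbit {lam : K} (hl : lam⁻¹ ≠ lam) {n : ℕ} {b : Bool}
    (hb : lam ^ (q ^ n) = lam ^ (cond b 1 (-1) : ℤ))
    (hinj : Set.InjOn (fun x => lam ^ expo q x) ↑((Finset.univ : Finset Bool) ×ˢ Finset.range n)) :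
    ∃ δ : K, δ ^ q = (cond b 1 (-1) : K) * δ ∧
      ∏ x ∈ ((Finset.univ : Finset Bool) ×ˢ Finset.range n).image (fun x => lam ^ expo q x), (x - x⁻¹) =
        (-1) ^ n * δ ^ 2 := by
  classical
  let σ : K →+* K := (FiniteField.frobeniusAlgHom F K).toRingHom
  have hσ : ∀ z, σ z = z ^ q := fun z => rfl
  let f : ℕ → K := fun i => lam ^ (q ^ i) - (lam ^ (q ^ i))⁻¹
  refine ⟨∏ i ∈ Finset.range n, f i, ?_, ?_⟩
  · have hs : ∀ i, σ (f i) = f (i + 1) := fun i => by
      rw [show σ (f i) = σ (lam ^ (q ^ i)) - σ ((lam ^ (q ^ i))⁻¹) from map_sub σ _ _, map_inv₀, hσ,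
        ← pow_mul]
      simp [f, pow_succ]
    rw [← hσ, map_prod, Finset.prod_congr rfl fun i _ => hs i]
    have hn : f n = (cond b 1 (-1) : K) * f 0 := by
      simp only [f, hb, pow_zero, pow_one]
      cases b <;> simp
    have h0 : f 0 ≠ 0 := by
      simp only [f, pow_zero, pow_one]
      exact sub_ne_zero.2 hl.symm
    have h3 := (Finset.prod_range_succ' f n).symm.trans (Finset.prod_range_succ f n)
    rw [hn] at h3
    exact mul_right_cancel₀ h0 (by linear_combination h3)
  · rw [Finset.prod_image hinj, Finset.prod_product, Fintype.univ_bool, Finset.prod_insert (by simp),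
      Finset.prod_singleton, ← Finset.prod_mul_distrib]
    have h1 : ∀ i ∈ Finset.range n, (lam ^ expo q (true, i) - (lam ^ expo q (true, i))⁻¹) *
        (lam ^ expo q (false, i) - (lam ^ expo q (false, i))⁻¹) = -1 * f i ^ 2 := by
      intro i _
      have e1 : lam ^ expo q (true, i) = lam ^ (q ^ i) := by
        rw [← zpow_natCast]; simp [expo]
      have e2 : lam ^ expo q (false, i) = (lam ^ (q ^ i))⁻¹ := by
        rw [← zpow_natCast, ← _root_.zpow_neg]; simp [expo]
      simp only [e1, e2, inv_inv, f]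
      ring
    rw [Finset.prod_congr rfl h1, Finset.prod_mul_distrib, Finset.prod_const, Finset.card_range,
      Finset.prod_pow]

/-- An element of order `2r` of `Ω (2n+1)` with `η(r) = n` forces the sign modulo four. -/
theorem omega_sameSign {p r n : ℕ} [Fact p.Prime] [CharP F p] [Fact r.Prime] (hp2 : p ≠ 2) (hn : 1 ≤ n)
    (hr2 : r ≠ 2) (hrp : r ≠ p) (he : n ≤ eta q r) {g : ↥(Cfsg.isometryGroup F ⇑(oddQ n F))}
    (hg : g ∈ Cfsg.Omega F ⇑(oddQ n F)) (ho : orderOf g = 2 * r) : SameSign q r 4 n := by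
  classical
  have h2 : (2 : F) ≠ 0 := fun h => hp2 ((Nat.prime_dvd_prime_iff_eq Fact.out Nat.prime_two).1
    ((CharP.cast_eq_zero_iff F p 2).1 (by exact_mod_cast h)))
  have hr := (Fact.out : r.Prime)
  have hr3 : 2 < r := by have := hr.two_le; omega
  have hQ := oddQ_nondegenerate (F := F) h2 n
  set ι := Unit ⊕ (Fin n ⊕ Fin n)
  have hι : Fintype.card ι = 2 * n + 1 := by simp [ι]; ring
  set G := mat (oddQ n F) (g ^ 2) with hG
  set X := mat (oddQ n F) (g ^ r) with hX
  have hgo : orderOf (g ^ 2) = r := by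
    rw [orderOf_pow' _ two_ne_zero, ho, Nat.gcd_mul_right_left, Nat.mul_div_cancel_left _ two_pos]
  have hGo : orderOf G = r := (orderOf_mat _).trans hgo
  obtain ⟨hnd, lam, hlam, hlo, heta, -⟩ :=
    nodup_of_eta (G := G) (p := p) hι.le he (isUnit_gram hQ) (form_mat _) hr2 hrp hGo
  obtain ⟨v, hv0, hGv⟩ := exists_fixed h2 hQ ⟨n, hι⟩ (pow_mem hg 2) (hgo ▸ pow_orderOf_eq_one _)
    (fun h => hrp ((Nat.prime_dvd_prime_iff_eq Fact.out hr).1 ((CharP.cast_eq_zero_iff F p r).1 h)).symm)
  rw [← hG] at hGv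
  obtain ⟨P, d, hP, hd, hA, hR⟩ := exists_diag hnd
  obtain ⟨y, hy⟩ := commute_diag hP hd hA (X := X.map (algebraMap F K)) (by
    rw [← Matrix.map_mul, ← Matrix.map_mul, hG, hX, ← mat_mul, ← mat_mul, ← pow_add, ← pow_add, add_comm])
  -- the column of the eigenvalue one
  set vK : ι → K := fun a => algebraMap F K (v a) with hvK
  obtain ⟨j, w, hj, hvw⟩ : ∃ j w, d j = 1 ∧ vK = w • Pᵀ j := by
    obtain ⟨uP, huP⟩ := hP
    set c := (uP⁻¹ : (Matrix ι ι K)ˣ).val *ᵥ vK with hc
    have hvc : vK = P *ᵥ c := by rw [hc, mulVec_mulVec, ← huP, Units.mul_inv, one_mulVec]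
    have hGK : G.map (algebraMap F K) *ᵥ vK = vK := by
      funext a
      rw [hvK, show (fun a => algebraMap F K (v a)) = algebraMap F K ∘ v from rfl, ← RingHom.map_mulVec, hGv]
      rfl
    have hdc : diagonal d *ᵥ c = c := by
      rw [hvc, mulVec_mulVec, hA, ← mulVec_mulVec, ← huP] at hGK
      exact mulVec_injective_iff_isUnit.2 uP.isUnit hGK
    obtain ⟨j, hcj⟩ : ∃ j, c j ≠ 0 := by
      by_contra hcon
      push Not at hcon
      refine hv0 ?_
      have : v = 0 := by
        funext a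
        have h3 := congrFun hvc a
        rw [show c = 0 from funext hcon, mulVec_zero] at h3
        simpa [hvK] using h3
      rw [this, QuadraticMap.map_zero]
    have hdj : ∀ i, c i ≠ 0 → d i = 1 := fun i hi => by
      have := congrFun hdc i
      rw [mulVec_diagonal] at this
      exact mul_right_cancel₀ hi (by rw [one_mul]; exact this)
    refine ⟨j, c j, hdj j hcj, ?_⟩
    rw [hvc]
    funext a
    rw [Pi.smul_apply, smul_eq_mul, transpose_apply, mulVec, dotProduct, Finset.sum_eq_single j, mul_comm]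
    · intro i _ hi
      by_contra h
      exact hi (hd ((hdj i (right_ne_zero_of_mul h)).trans (hdj j hcj).symm))
    · intro h
      exact absurd (Finset.mem_univ j) h
  have hl0 : lam ≠ 0 := fun h => by rw [h, orderOf_zero] at hlo; omega
  have hcop : Nat.Coprime q r := coprime_card hr hrp
  have hinj : Set.InjOn (fun x => lam ^ expo q x) ↑((Finset.univ : Finset Bool) ×ˢ Finset.range n) := by
    intro x hx z hz h
    simp only [Finset.coe_product, Set.mem_prod, Finset.coe_range, Set.mem_Iio] at hx hz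
    exact expo_cast_inj hr3 hcop (fun d hd0 hdn => not_sgn_of_lt hd0 (heta ▸ hdn)) hx.2 hz.2
      ((zpow_eq_iff hl0 hlo _ _).1 h)
  set T := ((Finset.univ : Finset Bool) ×ˢ Finset.range n).image (fun x => lam ^ expo q x) with hT
  have hTeq : (Finset.univ.erase j).image d = T := by
    symm
    apply Finset.eq_of_subset_of_card_le
    · intro x hx
      obtain ⟨e, -, rfl⟩ := Finset.mem_image.1 hx
      have hmem : lam ^ expo q e ∈ (rootsK K G).toFinset := zpow_expo_mem K
        (fun x hx => Multiset.mem_toFinset.2 (frob_mem K G (Multiset.mem_toFinset.1 hx)))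
        (fun x hx => Multiset.mem_toFinset.2 (inv_mem (isUnit_gram hQ) (form_mat _) (Multiset.mem_toFinset.1 hx)))
        (Multiset.mem_toFinset.2 hlam) e
      obtain ⟨i, hi⟩ := (hR _).1 (Multiset.mem_toFinset.1 hmem)
      refine Finset.mem_image.2 ⟨i, Finset.mem_erase.2 ⟨?_, Finset.mem_univ i⟩, hi⟩
      rintro rfl
      rw [hj] at hi
      have h3 := (zpow_eq_iff hl0 hlo (expo q e) 0).1 (by rw [← hi, zpow_zero])
      have hu : IsUnit ((expo q e : ℤ) : ZMod r) := by
        simp only [expo, Int.cast_mul, Int.cast_pow, Int.cast_natCast]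
        refine IsUnit.mul ?_ (((ZMod.isUnit_iff_coprime q r).2 hcop).pow _)
        rcases e with ⟨_ | _, m⟩ <;> simp
      rw [h3, Int.cast_zero] at hu
      exact not_isUnit_zero hu
    · rw [Finset.card_image_of_injective _ hd, Finset.card_erase_of_mem (Finset.mem_univ j), Finset.card_univ,
        hι, Finset.card_image_of_injOn hinj, Finset.card_product]
      simp
  have hdT : ∀ i, i ≠ j → ∃ e, d i = lam ^ expo q e := fun i hi => by
    have : d i ∈ T := hTeq ▸ Finset.mem_image_of_mem d (Finset.mem_erase.2 ⟨hi, Finset.mem_univ i⟩)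
    obtain ⟨e, -, he'⟩ := Finset.mem_image.1 this
    exact ⟨e, he'.symm⟩
  obtain ⟨i0, hi0⟩ := (hR lam).1 hlam
  have hi0j : i0 ≠ j := fun h => by
    rw [h, hj] at hi0
    rw [← hi0, orderOf_one] at hlo
    omega
  -- the values of the involution
  have hX2 : X ^ 2 = 1 := by
    rw [hX, sq, ← mat_mul, ← pow_add, ← two_mul, ← ho, pow_orderOf_eq_one, mat_one]
  have hy2 : ∀ i, y i ^ 2 = 1 := (pow_eq_one_iff_diag hP hy 2).1 hX2
  have hconst : ∀ i, i ≠ j → y i = y i0 := by
    intro i hi
    obtain ⟨e, he'⟩ := hdT i hi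
    obtain ⟨k, hk, hyk⟩ := value_on_orbit hP hd hA hy (isUnit_gram hQ) (form_mat _) (form_mat _) hR i0 e
    obtain rfl : k = i := hd (by rw [hk, hi0, he'])
    rw [hyk]
    obtain ⟨u, hu⟩ : Odd (expo q e) := by
      obtain ⟨f, -, hf⟩ := FiniteField.card F p
      have hqo : Odd (q : ℤ) := by
        rw [hf, Nat.cast_pow]
        exact (((Fact.out : p.Prime).odd_of_ne_two hp2).natCast).pow
      rcases e with ⟨_ | _, m⟩ <;> simp [expo, hqo.pow]
    rw [hu, zpow_add₀ (show y i0 ≠ 0 from fun h0 => by simpa [h0] using hy2 i0), _root_.zpow_mul, zpow_one,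
      show y i0 ^ (2 : ℤ) = 1 by exact_mod_cast hy2 i0, _root_.one_zpow, one_mul]
  have hyj : y j = 1 := by
    have h3 := congrArg Matrix.det hy
    rw [det_mul, det_mul, det_diagonal, show X.map (algebraMap F K) = (algebraMap F K).mapMatrix X from rfl,
      ← RingHom.map_det, hX, (mem_special_iff _).1 (omega_le_special (pow_mem hg r)), map_one, one_mul,
      ← Finset.mul_prod_erase _ _ (Finset.mem_univ j),
      Finset.prod_congr rfl (fun i hi => hconst i (Finset.ne_of_mem_erase hi)), Finset.prod_const,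
      Finset.card_erase_of_mem (Finset.mem_univ j), Finset.card_univ, hι, Nat.add_sub_cancel, pow_mul, hy2,
      one_pow, mul_one] at h3
    have hPd : P.det ≠ 0 := ((Matrix.isUnit_iff_isUnit_det P).1 hP).ne_zero
    exact mul_left_cancel₀ hPd (by rw [mul_one]; exact h3.symm)
  have hy0 : y i0 = -1 := by
    refine (sq_eq_one_iff.1 (hy2 i0)).resolve_left fun h1 => ?_
    have h3 : X ^ 1 = 1 := (pow_eq_one_iff_diag hP hy 1).2 fun i => by
      rw [pow_one]
      rcases eq_or_ne i j with rfl | hi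
      · exact hyj
      · rw [hconst i hi, h1]
    rw [pow_one, hX, ← mat_one (oddQ n F)] at h3
    have := Nat.le_of_dvd hr.pos (ho ▸ orderOf_dvd_of_pow_eq_one (mat_ext (oddQ n F) h3))
    omega
  -- `X = -r_v`
  obtain ⟨hz0, hzj⟩ := covec_eigen (Q := oddQ n F) (form_mat (g ^ 2)) hGv hA hd hj hvw
  have hXR : X = -Cfsg.reflectionMatrix (⇑(oddQ n F)) v := by
    refine Matrix.map_injective (algebraMap F K).injective ?_
    show X.map (algebraMap F K) = _
    beta_reduce
    apply hP.mul_right_cancel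
    rw [hy, Cfsg.reflectionMatrix]
    ext a b
    rw [mul_diagonal, Matrix.map_neg _ (map_neg (algebraMap F K)), neg_mul, Matrix.neg_apply,
      Matrix.map_sub _ (map_sub (algebraMap F K)), Matrix.map_one _ (map_zero _) (map_one _), sub_mul, one_mul,
      Matrix.sub_apply, mul_apply]
    have hpv : Cfsg.polarVec (⇑(oddQ n F)) v = FormDiscr.gram (oddQ n F) *ᵥ v := by
      funext c
      show QuadraticMap.polar (⇑(oddQ n F)) v (Pi.single c 1) = _
      rw [QuadraticMap.polar_comm, polar_eq_dot, single_one_dotProduct]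
    simp only [Matrix.map_apply, Matrix.smul_apply, smul_eq_mul, vecMulVec_apply, map_mul, mul_assoc, hpv,
      ← Finset.mul_sum]
    change P a b * y b = -(P a b - algebraMap F K ((oddQ n F) v)⁻¹ * (vK a *
      ((fun c => algebraMap F K ((FormDiscr.gram (oddQ n F) *ᵥ v) c)) ᵥ* P) b))
    rcases eq_or_ne b j with rfl | hb
    · rw [hyj, mul_one, hvw, Pi.smul_apply, smul_eq_mul, transpose_apply, mul_comm w, mul_assoc, hzj,
        map_mul, map_ofNat, map_inv₀]
      have : algebraMap F K ((oddQ n F) v) ≠ 0 := (_root_.map_ne_zero _).2 hv0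
      field_simp
      ring
    · rw [hconst b hb, hy0, hz0 b hb]
      ring
  have hsq1 := isSquare_of_neg_refl h2 (pow_mem hg r) hv0 hXR
  have hd0 : ∀ i, d i ≠ 0 := fun i h0 => by
    rcases eq_or_ne i j with rfl | hi
    · rw [hj] at h0
      exact one_ne_zero h0
    · obtain ⟨e, he'⟩ := hdT i hi
      rw [he'] at h0
      exact zpow_ne_zero _ hl0 h0
  have hne : ∀ i, i ≠ j → d i * d i ≠ 1 := fun i hi h0 => by
    have : d i ∈ (rootsK K G) := (hR _).2 ⟨i, rfl⟩
    have h3 : d i ^ r = 1 := root_pow K (hGo ▸ pow_orderOf_eq_one G) this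
    have h4 : d i ^ 1 = 1 := by
      have := (Nat.coprime_two_left.2 (hr.odd_of_ne_two hr2)).gcd_eq_one
      rw [← this]
      exact pow_gcd_eq_one.2 ⟨by rw [sq]; exact h0, h3⟩
    exact hi (hd (by rw [hj, ← h4, pow_one]))
  obtain ⟨z, hsq2, hz⟩ := exists_disc h2 hQ (form_mat (g ^ 2)) hGv hv0 hP hA hd hj hd0 hne hvw
  rw [← Finset.prod_image (f := fun x => x - x⁻¹) (fun a _ b _ h => hd h), hTeq] at hz
  obtain ⟨b, hb, hbz⟩ : ∃ b : Bool, ((q : ZMod r) ^ n = ((cond b 1 (-1) : ℤ) : ZMod r)) ∧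
      lam ^ (q ^ n) = lam ^ (cond b 1 (-1) : ℤ) := by
    have key : ∀ b : Bool, ((q : ZMod r) ^ n = ((cond b 1 (-1) : ℤ) : ZMod r)) →
        lam ^ (q ^ n) = lam ^ (cond b 1 (-1) : ℤ) := fun b hb => by
      rw [← zpow_natCast, zpow_eq_iff hl0 hlo]
      simpa using hb
    rcases (heta ▸ sgn_eta : Sgn q r n) with h | h
    · exact ⟨true, by simpa using h, key true (by simpa using h)⟩
    · exact ⟨false, by simpa using h, key false (by simpa using h)⟩
  obtain ⟨δ, hδ, hprod⟩ := prod_orbit (inv_ne_of_order hr3 hlo) hbz hinj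
  rw [hprod, gram_det_odd] at hz
  obtain ⟨d2, hd2⟩ : ∃ d2 : F, algebraMap F K d2 = δ ^ 2 := exists_of_pow_card (by
    rw [← pow_mul, mul_comm, pow_mul, hδ]
    cases b <;> simp)
  have hz' : z = 2 * d2 := (algebraMap F K).injective (by
    rw [hz, map_mul, map_mul, map_pow, map_neg, map_one, map_ofNat, hd2, mul_assoc, ← mul_assoc ((-1 : K) ^ n),
      ← mul_pow, neg_one_mul, neg_neg, one_pow, one_mul])
  have hδ0 : δ ≠ 0 := fun h0 => by
    have h3 : ∏ x ∈ T, (x - x⁻¹) = 0 := by rw [hprod, h0]; simp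
    obtain ⟨x, hx, hx0⟩ := Finset.prod_eq_zero_iff.1 h3
    rw [← hTeq] at hx
    obtain ⟨i, hi, rfl⟩ := Finset.mem_image.1 hx
    refine hne i (Finset.ne_of_mem_erase hi) ?_
    rw [sub_eq_zero] at hx0
    conv_lhs => arg 1; rw [hx0]
    exact inv_mul_cancel₀ (hd0 i)
  have hd20 : d2 ≠ 0 := fun h0 => by
    rw [h0, map_zero] at hd2
    exact pow_ne_zero 2 hδ0 hd2.symm
  have hfin : IsSquare ((-1 : F) ^ n * d2) := by
    obtain ⟨a1, ha1⟩ := hsq1
    obtain ⟨a2, ha2⟩ := hsq2
    rw [hz'] at ha2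
    refine ⟨a1 * a2 / (2 * (oddQ n F) v), ?_⟩
    field_simp
    linear_combination (-1 : F) ^ n * (oddQ n F) v * ha2 + a2 * a2 * ha1
  have hqodd : Odd q := by
    obtain ⟨f, -, hf⟩ := FiniteField.card F p
    rw [hf]
    exact ((Fact.out : p.Prime).odd_of_ne_two hp2).pow
  have hmod := TwoRank.isSquare_neg_one_pow_iff rfl hqodd n
  have hqn : q ^ n % 4 = 1 ∨ q ^ n % 4 = 3 := by
    have := Nat.odd_iff.1 (hqodd.pow (n := n))
    omega
  have hcast : ∀ m : ℕ, q ^ n % 4 = m → (q : ZMod 4) ^ n = (m : ZMod 4) := fun m hm => by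
    rw [← Nat.cast_pow, ← ZMod.natCast_mod, hm]
  cases b
  · refine Or.inr ⟨by simpa using hb, ?_⟩
    rcases hqn with h | h
    · exfalso
      obtain ⟨a, ha⟩ := hfin
      obtain ⟨e, he'⟩ := hmod.1 h
      have he0 : e ≠ 0 := fun h0 => by simp [h0] at he'
      have h3 : δ ^ 2 = algebraMap F K (a / e) ^ 2 := by
        rw [← hd2, ← map_pow]
        congr 1
        field_simp
        linear_combination ha - d2 * he'
      have h4 : δ ^ q = δ := by
        rcases sq_eq_sq_iff_eq_or_eq_neg.1 h3 with h5 | h5 <;>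
          simp only [h5, ← map_neg, ← map_pow, FiniteField.pow_card]
      rw [hδ] at h4
      simp at h4
      refine hδ0 ?_
      have : (2 : K) * δ = 0 := by linear_combination -h4
      refine (mul_eq_zero.1 this).resolve_left ?_
      rw [← map_ofNat (algebraMap F K)]
      exact (_root_.map_ne_zero _).2 h2
    · rw [hcast 3 h]
      decide
  · refine Or.inl ⟨by simpa using hb, ?_⟩
    rcases hqn with h | h
    · rw [hcast 1 h]
      simp
    · exfalso
      simp only [cond_true, one_mul] at hδ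
      obtain ⟨e, he'⟩ := exists_of_pow_card hδ
      obtain ⟨a, ha⟩ := hfin
      have he2 : d2 = e ^ 2 := (algebraMap F K).injective (by rw [hd2, map_pow, he'])
      have he0 : e ≠ 0 := fun h0 => hd20 (by rw [he2, h0]; simp)
      refine hmod.2 h ⟨a / e, ?_⟩
      field_simp
      linear_combination ha - (-1 : F) ^ n * he2

end Main

end CfsgLib.PrimeGraphBC
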