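import Cfsg.Agent.PrimeGraphBC.Diag

/-!
# Isometries in dimension at most `2n + 1` and element orders `r * s`
-/

set_option autoImplicit false

namespace CfsgLib.PrimeGraphBC

open Matrix Polynomial

variable {F : Type*} [Field F] [Fintype F] {ι : Type*} [Fintype ι] [DecidableEq ι]
  {G B : Matrix ι ι F}

local notation "q" => Fintype.card F
local notation "K" => AlgebraicClosure F

theorem not_dvd_card {p r : ℕ} [Fact p.Prime] [CharP F p] (hr : r.Prime) (hrp : r ≠ p) : ¬ r ∣ q := by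
  obtain ⟨f, -, hf⟩ := FiniteField.card F p
  rw [hf]
  exact fun h => hrp ((Nat.prime_dvd_prime_iff_eq hr Fact.out).1 (hr.dvd_of_dvd_pow h))

theorem coprime_card {p r : ℕ} [Fact p.Prime] [CharP F p] (hr : r.Prime) (hrp : r ≠ p) : Nat.Coprime q r :=
  (hr.coprime_iff_not_dvd.2 (not_dvd_card hr hrp)).symm

section Orbit

variable {p r : ℕ} [Fact p.Prime] [CharP F p] [Fact r.Prime]

theorem exists_orbit_prime [Nonempty ι] (hB : IsUnit B) (h : Gᵀ * B * G = B) (hr2 : r ≠ 2) (hrp : r ≠ p)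
    {lam : K} (hl : lam ∈ rootsK K G) (ho : orderOf lam = r) :
    ∃ T : Finset K, T.val ≤ rootsK K G ∧ T.card = 2 * eta q r ∧ 2 * eta q r ≤ Fintype.card ι ∧
      ∀ mu ∈ T, (∃ x, mu = lam ^ expo q x) ∧ orderOf mu = r :=
  exists_root_orbit hB h hl ho
    (by have := (Fact.out : r.Prime).two_le; omega) (coprime_card Fact.out hrp) fun _ => not_sgn_of_lt

/-- `η(r)` is at most half the dimension. -/
theorem eta_le [Nonempty ι] (hB : IsUnit B) (h : Gᵀ * B * G = B) (hr2 : r ≠ 2) (hrp : r ≠ p)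
    (ho : orderOf G = r) : 2 * eta q r ≤ Fintype.card ι := by
  obtain ⟨lam, hl, hlo⟩ := exists_root_prime K Fact.out hrp ho
  obtain ⟨T, -, -, hT, -⟩ := exists_orbit_prime hB h hr2 hrp hl hlo
  exact hT

/-- An element with a full orbit of eigenvalues has distinct eigenvalues. -/
theorem roots_nodup (hB : IsUnit B) (h : Gᵀ * B * G = B) (T : Finset K) (hT : T.val ≤ rootsK K G)
    (hcard : Fintype.card ι ≤ T.card + 1) (hinv : ∀ x ∈ T, x⁻¹ ≠ x) : (rootsK K G).Nodup := by
  classical
  set R := rootsK K G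
  have hRc : Multiset.card R = Fintype.card ι := card_rootsK _ G
  have hsum : T.val + (R - T.val) = R := add_tsub_cancel_of_le hT
  have hrest : Multiset.card (R - T.val) ≤ 1 := by
    rw [Multiset.card_sub hT, hRc]
    exact Nat.sub_le_iff_le_add'.2 hcard
  rw [Multiset.nodup_iff_count_le_one]
  intro x
  by_contra hx
  have hsplit : ∀ y, R.count y = T.val.count y + (R - T.val).count y := fun y => by
    rw [← Multiset.count_add, hsum]
  have hT1 : ∀ y, T.val.count y ≤ 1 := fun y => Multiset.nodup_iff_count_le_one.1 T.nodup y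
  have h1 : ∀ y, (R - T.val).count y ≤ 1 := fun y => (Multiset.count_le_card _ _).trans hrest
  have hboth : ∀ y, 1 < R.count y → y ∈ T ∧ y ∈ R - T.val := fun y hy => by
    have := hsplit y
    have := hT1 y
    have := h1 y
    exact ⟨Multiset.count_pos.1 (by omega), Multiset.count_pos.1 (by omega)⟩
  obtain ⟨hxT, hxr⟩ := hboth x (by omega)
  have hc : R.count x⁻¹ = R.count x := by
    change (rootsK K G).count x⁻¹ = (rootsK K G).count x
    conv_lhs => rw [← (roots_map_inv (isUnit_of_isometry hB h) hB h : (rootsK K G).map (·⁻¹) = rootsK K G)]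
    exact Multiset.count_map_eq_count' _ _ inv_injective x
  obtain ⟨-, hxr'⟩ := hboth x⁻¹ (by omega)
  exact hinv x hxT (by
    rcases Nat.le_one_iff_eq_zero_or_eq_one.1 hrest with h0 | h0
    · rw [Multiset.card_eq_zero.1 h0] at hxr
      exact absurd hxr (Multiset.notMem_zero x)
    · obtain ⟨a, ha⟩ := Multiset.card_eq_one.1 h0
      rw [ha, Multiset.mem_singleton] at hxr hxr'
      exact hxr'.trans hxr.symm)

theorem inv_ne_of_order {x : K} {N : ℕ} (hN : 2 < N) (hx : orderOf x = N) : x⁻¹ ≠ x := fun he => by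
  have h0 : x ≠ 0 := fun h0 => by rw [h0, orderOf_zero] at hx; omega
  have : x ^ 2 = 1 := by
    rw [sq]
    nth_rewrite 1 [← he]
    exact inv_mul_cancel₀ h0
  have := Nat.le_of_dvd two_pos (hx ▸ orderOf_dvd_of_pow_eq_one this)
  omega

theorem nodup_of_eta [Nonempty ι] {n : ℕ} (hι : Fintype.card ι ≤ 2 * n + 1) (hn : n ≤ eta q r)
    (hB : IsUnit B) (h : Gᵀ * B * G = B) (hr2 : r ≠ 2) (hrp : r ≠ p) (ho : orderOf G = r) :
    (rootsK K G).Nodup ∧ ∃ lam ∈ rootsK K G, orderOf lam = r ∧ eta q r = n ∧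
      ∃ T : Finset K, T.val ≤ rootsK K G ∧ T.card = 2 * n ∧
        ∀ mu ∈ T, (∃ x, mu = lam ^ expo q x) ∧ orderOf mu = r := by
  obtain ⟨lam, hl, hlo⟩ := exists_root_prime K Fact.out hrp ho
  obtain ⟨T, hT, hTc, hle, hm⟩ := exists_orbit_prime hB h hr2 hrp hl hlo
  have he : eta q r = n := by omega
  refine ⟨roots_nodup hB h T hT (by omega) fun x hx => inv_ne_of_order ?_ (hm x hx).2,
    lam, hl, hlo, he, T, hT, by omega, hm⟩
  have := (Fact.out : r.Prime).two_le
  omega

end Orbit

/-- No element of order `r * s` when `η(r) + η(s) > n` and the signs differ. -/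
theorem no_pair {p r s : ℕ} [Fact p.Prime] [CharP F p] [Fact r.Prime] [Fact s.Prime] [Nonempty ι] {n : ℕ}
    (hι : Fintype.card ι ≤ 2 * n + 1) (hB : IsUnit B) (h : Gᵀ * B * G = B)
    (hr2 : r ≠ 2) (hs2 : s ≠ 2) (hrp : r ≠ p) (hsp : s ≠ p) (hrs : r ≠ s)
    (hle : eta q r ≤ eta q s) (hsum : n < eta q r + eta q s)
    (hC : ¬ SameSign q r s (eta q s)) : orderOf G ≠ r * s := by
  classical
  intro ho
  have hr := (Fact.out : r.Prime)
  have hs := (Fact.out : s.Prime)
  have hr3 : 2 < r := by have := hr.two_le; omega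
  have hs3 : 2 < s := by have := hs.two_le; omega
  rcases exists_root_mul K hr hs hrp hsp ho with ⟨lam, hl, hlo⟩ | ⟨⟨lam, hl, hlo⟩, mu, hmu, hmo⟩
  · obtain ⟨T, -, -, hT, -⟩ := exists_root_orbit hB h hl hlo (by nlinarith)
      ((coprime_card hr hrp).mul_right (coprime_card hs hsp)) (A := 2 * eta q s)
      fun d => not_sgn_mul ((Nat.coprime_primes hr hs).2 hrs) hC
    omega
  · obtain ⟨T, hT, hTc, -, hTm⟩ := exists_orbit_prime hB h hr2 hrp hl hlo
    obtain ⟨U, hU, hUc, -, hUm⟩ := exists_orbit_prime hB h hs2 hsp hmu hmo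
    have hd : Disjoint T U := Finset.disjoint_left.2 fun x hx hx' =>
      hrs ((hTm x hx).2.symm.trans (hUm x hx').2)
    have hsub : (T ∪ U).val ≤ rootsK K G := (Multiset.le_iff_subset (T ∪ U).nodup).2 fun x hx => by
      rcases Finset.mem_union.1 hx with hx | hx
      · exact Multiset.mem_of_le hT hx
      · exact Multiset.mem_of_le hU hx
    have hcu := Multiset.card_le_card hsub
    rw [card_rootsK] at hcu
    change (T ∪ U).card ≤ _ at hcu
    rw [Finset.card_union_of_disjoint hd] at hcu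
    omega

/-- No element of order `r * p` when `η(r) ≥ n`. -/
theorem no_char {p r : ℕ} [Fact p.Prime] [CharP F p] [Fact r.Prime] [Nonempty ι] {n : ℕ}
    (hι : Fintype.card ι ≤ 2 * n + 1) (hB : IsUnit B) (h : Gᵀ * B * G = B)
    (hr2 : r ≠ 2) (hrp : r ≠ p) (hn : n ≤ eta q r) : orderOf G ≠ r * p := by
  classical
  intro ho
  have hr := (Fact.out : r.Prime)
  have hp := (Fact.out : p.Prime)
  set g := G ^ p with hg
  set u := G ^ r with hu
  have hgo : orderOf g = r := by
    rw [hg, orderOf_pow' _ hp.ne_zero, ho, Nat.gcd_mul_left_left, Nat.mul_div_cancel _ hp.pos]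
  have hgB : gᵀ * B * g = B := by
    have key : ∀ k : ℕ, (G ^ k)ᵀ * B * G ^ k = B := by
      intro k
      induction k with
      | zero => simp
      | succ k ih =>
        rw [pow_succ, transpose_mul, show Gᵀ * (G ^ k)ᵀ * B * (G ^ k * G)
          = Gᵀ * ((G ^ k)ᵀ * B * G ^ k) * G by simp only [mul_assoc], ih, h]
    exact key p
  obtain ⟨hnd, -⟩ := nodup_of_eta hι hn hB hgB hr2 hrp hgo
  obtain ⟨P, d, hP, hd, hA, -⟩ := exists_diag hnd
  have hcomm : u.map (algebraMap F K) * g.map (algebraMap F K) = g.map (algebraMap F K) * u.map (algebraMap F K) := by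
    rw [← Matrix.map_mul, ← Matrix.map_mul, hg, hu, ← pow_add, ← pow_add, add_comm]
  obtain ⟨x, hx⟩ := commute_diag hP hd hA hcomm
  have hup : u ^ p = 1 := by rw [hu, ← pow_mul, ← ho, pow_orderOf_eq_one]
  haveI : CharP K p := charP_of_injective_algebraMap (algebraMap F K).injective p
  have hx1 : ∀ i, x i ^ 1 = 1 := fun i => by
    have hxi := (pow_eq_one_iff_diag hP hx p).1 hup i
    rw [pow_one, ← sub_eq_zero]
    refine (pow_eq_zero_iff hp.ne_zero).1 ?_
    rw [sub_pow_char, hxi, one_pow, sub_self]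
  have h1 := (pow_eq_one_iff_diag hP hx 1).2 hx1
  rw [pow_one, hu, ← orderOf_dvd_iff_pow_eq_one, ho] at h1
  have := Nat.le_of_dvd hr.pos h1
  have := hp.two_le
  nlinarith [hr.pos]

/-- The values of a commuting isometry on an eigenvalue orbit. -/
theorem value_on_orbit {X : Matrix ι ι F} {P : Matrix ι ι K} {d x : ι → K} (hP : IsUnit P)
    (hd : Function.Injective d) (hA : G.map (algebraMap F K) * P = P * diagonal d)
    (hX : X.map (algebraMap F K) * P = P * diagonal x) (hB : IsUnit B) (hG : Gᵀ * B * G = B)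
    (hXB : Xᵀ * B * X = B) (hR : ∀ y, y ∈ rootsK K G ↔ ∃ i, d i = y) (i0 : ι) (e : Bool × ℕ) :
    ∃ j, d j = d i0 ^ expo q e ∧ x j = x i0 ^ expo q e := by
  obtain ⟨b, m⟩ := e
  induction m with
  | zero =>
    cases b
    · have hmem : (d i0)⁻¹ ∈ rootsK K G := inv_mem hB hG ((hR _).2 ⟨i0, rfl⟩)
      obtain ⟨j, hj⟩ := (hR _).1 hmem
      have h0 : d i0 ≠ 0 := by
        intro h0
        have hu := (Matrix.isUnit_iff_isUnit_det _).1 (isUnit_of_isometry hB hG)
        have hu2 : IsUnit (G.map (algebraMap F K)) := (isUnit_of_isometry hB hG).map (algebraMap F K).mapMatrix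
        have h3 : IsUnit (P * diagonal d) := hA ▸ hu2.mul hP
        have h4 := (Matrix.isUnit_iff_isUnit_det _).1 h3
        rw [det_mul, det_diagonal, Finset.prod_eq_zero (Finset.mem_univ i0) h0, mul_zero] at h4
        exact not_isUnit_zero h4
      refine ⟨j, by simpa [expo] using hj, ?_⟩
      have := pairing hP hd hA hX hB hG hXB (i := j) (j := i0) (by rw [hj, inv_mul_cancel₀ h0])
      simpa [expo] using eq_inv_of_mul_eq_one_left this
    · exact ⟨i0, by simp [expo], by simp [expo]⟩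
  | succ m ih =>
    obtain ⟨j, hj, hxj⟩ := ih
    obtain ⟨k, hk⟩ := (hR _).1 (frob_mem K G ((hR _).2 ⟨j, rfl⟩))
    refine ⟨k, ?_, ?_⟩
    · rw [hk, hj, ← zpow_natCast, ← _root_.zpow_mul, expo_succ]
    · rw [frob_compat hP hd hA hX hk, hxj, ← zpow_natCast, ← _root_.zpow_mul, expo_succ]

/-- If the value at an eigenvalue of order `r` has order `M`, the signs agree. -/
theorem sameSign_of_value {X : Matrix ι ι F} {P : Matrix ι ι K} {d x : ι → K} (hP : IsUnit P)
    (hd : Function.Injective d) (hA : G.map (algebraMap F K) * P = P * diagonal d)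
    (hX : X.map (algebraMap F K) * P = P * diagonal x) (hB : IsUnit B) (hG : Gᵀ * B * G = B)
    (hXB : Xᵀ * B * X = B) (hR : ∀ y, y ∈ rootsK K G ↔ ∃ i, d i = y) (i0 : ι) {r M a : ℕ}
    (hr : orderOf (d i0) = r) (hr0 : 0 < r) (hM : orderOf (x i0) = M) (hM0 : 0 < M) (hs : Sgn q r a) :
    SameSign q r M a := by
  obtain ⟨b, hb⟩ : ∃ b : Bool, (q : ZMod r) ^ a = ((cond b 1 (-1) : ℤ) : ZMod r) := by
    rcases hs with h | h
    · exact ⟨true, by simpa using h⟩
    · exact ⟨false, by simpa using h⟩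
  have hd0 : d i0 ≠ 0 := fun h => by rw [h, orderOf_zero] at hr; omega
  have hx0 : x i0 ≠ 0 := fun h => by rw [h, orderOf_zero] at hM; omega
  obtain ⟨j, hj, hxj⟩ := value_on_orbit hP hd hA hX hB hG hXB hR i0 (true, a)
  obtain ⟨k, hk, hxk⟩ := value_on_orbit hP hd hA hX hB hG hXB hR i0 (b, 0)
  have hjk : j = k := hd (by
    rw [hj, hk, zpow_eq_iff hd0 hr]
    simp only [expo, cond_true, Int.cast_mul, Int.cast_pow, Int.cast_natCast, pow_zero, one_mul, mul_one]
    simpa using hb)
  subst hjk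
  have h2 := (zpow_eq_iff hx0 hM _ _).1 (hxj.symm.trans hxk)
  simp only [expo, cond_true, Int.cast_mul, Int.cast_pow, Int.cast_natCast, pow_zero, one_mul, mul_one] at h2
  cases b
  · exact Or.inr ⟨by simpa using hb, by simpa using h2⟩
  · exact Or.inl ⟨by simpa using hb, by simpa using h2⟩

end CfsgLib.PrimeGraphBC
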