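import Cfsg.Agent.PrimeGraphBC.Symp

/-!
# Element orders `2 r` in `PSp (2n, q)`, `q` odd
-/

set_option autoImplicit false

namespace CfsgLib.PrimeGraphBC

open Matrix Polynomial

variable {F : Type*} [Field F] [Fintype F] {n : ℕ}

local notation "q" => Fintype.card F
local notation "K" => AlgebraicClosure F

theorem exists_orderOf_eq {G : Type*} [Monoid G] {x : G} {m : ℕ} (hx : orderOf x ≠ 0) (h : m ∣ orderOf x) :
    ∃ y : G, orderOf y = m := ⟨_, orderOf_pow_orderOf_div hx h⟩

/-- `-1 ⊕ g`. -/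
theorem two_sum {m r : ℕ} (hm : 1 ≤ m) (h2 : (2 : F) ≠ 0) (g : Matrix.symplecticGroup (Fin m) F)
    (hg : orderOf g = r) (hr : Odd r) : 2 * r ∈ Set.range (orderOf : Cfsg.PSp (m + 1) F → ℕ) := by
  let e : Matrix.symplecticGroup (Fin 1) F := ⟨-1, SymplecticGroup.neg_mem (one_mem _)⟩
  refine ⟨QuotientGroup.mk (SympOrders.spSum m 1 (g, e)), ?_⟩
  set x := (QuotientGroup.mk (SympOrders.spSum m 1 (g, e)) : Cfsg.PSp (m + 1) F) with hxdef
  have he2 : e ^ 2 = 1 := Subtype.ext (by rw [SubmonoidClass.coe_pow]; simp [e])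
  have hge : (g, e) ^ (2 * r) = 1 := Prod.ext
    (show g ^ (2 * r) = 1 by rw [mul_comm, pow_mul, ← hg, pow_orderOf_eq_one, one_pow])
    (show e ^ (2 * r) = 1 by rw [pow_mul, he2, one_pow])
  refine Nat.dvd_antisymm (orderOf_dvd_of_pow_eq_one ?_) ?_
  · rw [hxdef, ← QuotientGroup.mk_pow, ← map_pow, hge, map_one, QuotientGroup.mk_one]
  obtain ⟨c, hc, hgc⟩ := scalar_of_mk_pow (by omega) (pow_orderOf_eq_one x)
  rw [← SubmonoidClass.coe_pow, ← map_pow] at hgc
  obtain ⟨h1, h3⟩ := SympOrders.spSum_scalar (g ^ orderOf x) (e ^ orderOf x) c hgc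
  rw [SubmonoidClass.coe_pow] at h1 h3
  have h4 : g ^ (orderOf x * 2) = 1 := by
    apply Subtype.ext
    rw [pow_mul, SubmonoidClass.coe_pow, SubmonoidClass.coe_pow, h1, _root_.smul_pow, sq, hc, one_pow,
      one_smul]
    rfl
  have hrd : r ∣ orderOf x :=
    (Nat.coprime_two_right.2 hr).dvd_of_dvd_mul_right (hg ▸ orderOf_dvd_of_pow_eq_one h4)
  have h5 : g ^ orderOf x = 1 := orderOf_dvd_iff_pow_eq_one.1 (hg ▸ hrd)
  have hc1 : c = 1 := smul_one_inj (n := m) (by omega) (by
    rw [← h1, one_smul, ← SubmonoidClass.coe_pow, h5]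
    rfl)
  have hev : 2 ∣ orderOf x := by
    rw [← even_iff_two_dvd]
    by_contra hodd
    rw [Nat.not_even_iff_odd] at hodd
    rw [show ((e : Matrix.symplecticGroup (Fin 1) F) : Matrix (Fin 1 ⊕ Fin 1) (Fin 1 ⊕ Fin 1) F) = -1 from rfl,
      hodd.neg_one_pow, hc1, one_smul] at h3
    have h6 := congrFun (congrFun h3 (Sum.inl 0)) (Sum.inl 0)
    simp at h6
    exact h2 (by linear_combination -h6)
  exact (Nat.coprime_two_left.2 hr).mul_dvd_of_dvd_of_dvd hev hrd

theorem two_char_mem (p : ℕ) [Fact p.Prime] [CharP F p] (hp2 : p ≠ 2) (hn : 2 ≤ n) :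
    2 * p ∈ Set.range (orderOf : Cfsg.PSp n F → ℕ) := by
  obtain ⟨m, rfl⟩ := Nat.exists_eq_add_of_le' (show 1 ≤ n by omega)
  obtain ⟨g, hg⟩ := exists_order_char (F := F) p (show 1 ≤ m by omega)
  have h2 : (2 : F) ≠ 0 := fun h => hp2 ((Nat.prime_dvd_prime_iff_eq Fact.out Nat.prime_two).1
    ((CharP.cast_eq_zero_iff F p 2).1 (by exact_mod_cast h)))
  exact two_sum (by omega) h2 g hg ((Fact.out : p.Prime).odd_of_ne_two hp2)

theorem orderOf_eq_four {L : Type*} [Monoid L] {x : L} (h4 : x ^ 4 = 1) (h2 : x ^ 2 ≠ 1) : orderOf x = 4 := by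
  haveI : Fact (Nat.Prime 2) := ⟨Nat.prime_two⟩
  exact orderOf_eq_prime_pow (p := 2) (n := 1) (by simpa using h2) (by simpa using h4)

/-- Adjacency of an odd prime and `2`. -/
theorem two_iff {p r : ℕ} [Fact p.Prime] [CharP F p] [Fact r.Prime] (hp2 : p ≠ 2) (hn : 2 ≤ n)
    (hr2 : r ≠ 2) (hrp : r ≠ p) (hle : eta q r ≤ n) :
    2 * r ∈ Set.range (orderOf : Cfsg.PSp n F → ℕ) ↔ eta q r ≤ n - 1 ∨ SameSign q r 4 n := by
  classical
  haveI : Nonempty (Fin n) := ⟨⟨0, by omega⟩⟩
  have h2 : (2 : F) ≠ 0 := fun h => hp2 ((Nat.prime_dvd_prime_iff_eq Fact.out Nat.prime_two).1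
    ((CharP.cast_eq_zero_iff F p 2).1 (by exact_mod_cast h)))
  have hr := (Fact.out : r.Prime)
  have hrodd := hr.odd_of_ne_two hr2
  constructor
  · rintro ⟨x, hx⟩
    by_contra hcon
    push Not at hcon
    obtain ⟨g, rfl⟩ := QuotientGroup.mk_surjective x
    set G := (g : Matrix (Fin n ⊕ Fin n) (Fin n ⊕ Fin n) F) with hG
    obtain ⟨c, hc, hgc⟩ := scalar_of_mk_pow (by omega) (pow_orderOf_eq_one (QuotientGroup.mk g : Cfsg.PSp n F))
    rw [hx] at hgc
    set H := G ^ 4 with hH
    set X := G ^ r with hX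
    have hHr : H ^ r = 1 := by
      rw [hH, ← pow_mul, show 4 * r = 2 * r * 2 by ring, pow_mul, hgc, _root_.smul_pow, sq, hc, one_pow,
        one_smul]
    have hHo : orderOf H = r := orderOf_eq_prime hHr fun h1 => by
      have h3 : (QuotientGroup.mk g : Cfsg.PSp n F) ^ 4 = 1 :=
        (SympOrders.mk_pow_eq_one_iff g 4).2 ⟨1, by rw [one_smul, ← hG, ← hH, h1]⟩
      have h4 := Nat.le_of_dvd (by norm_num) (hx ▸ orderOf_dvd_of_pow_eq_one h3)
      have := hr.two_le
      omega
    have hform : ∀ k : ℕ, (G ^ k)ᵀ * Matrix.J (Fin n) F * G ^ k = Matrix.J (Fin n) F := fun k => by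
      rw [hG, ← SubmonoidClass.coe_pow]
      exact sp_form _
    obtain ⟨hnd, lam, hl, hlo, he, T, hT, hTc, hTm⟩ :=
      nodup_of_eta (G := H) (n := n) (p := p) (by simp [two_mul]) (by omega) isUnit_J (hform 4) hr2 hrp hHo
    obtain ⟨P, d, hP, hd, hA, hR⟩ := exists_diag hnd
    obtain ⟨y, hy⟩ := commute_diag hP hd hA (X := X.map (algebraMap F K)) (by
      rw [← Matrix.map_mul, ← Matrix.map_mul, hH, hX, ← pow_add, ← pow_add, add_comm])
    obtain ⟨i0, hi0⟩ := (hR lam).1 hl
    have hX2 : X ^ 2 = c • 1 := by rw [hX, ← pow_mul, mul_comm, hgc]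
    have hy2 : ∀ i, y i ^ 2 = algebraMap F K c := by
      intro i
      have h3 : (X ^ 2).map (algebraMap F K) * P = P * diagonal (y ^ 2) := by
        rw [show (X ^ 2).map (algebraMap F K) = (X.map (algebraMap F K)) ^ 2 from
          map_pow (algebraMap F K).mapMatrix X 2]
        exact diag_pow hy 2
      have h5 : (X ^ 2).map (algebraMap F K) = algebraMap F K c • 1 := by
        rw [hX2]
        ext a b
        simp [Matrix.one_apply, apply_ite (algebraMap F K)]
      rw [h5, smul_mul_assoc, one_mul] at h3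
      have h7 : P * (algebraMap F K c • 1) = P * diagonal (y ^ 2) := by rw [mul_smul_comm, mul_one, h3]
      have h6 := congrFun (congrFun (hP.mul_left_cancel h7) i) i
      simp at h6
      exact h6.symm
    rcases mul_self_eq_one_iff.1 hc with hc1 | hc1
    · -- an involution commuting with `H` is scalar
      rw [hc1, map_one] at hy2
      have hconst : ∀ j, y j = y i0 := by
        intro j
        have hall : d j ∈ T := by
          have : T.val = rootsK K H := Multiset.eq_of_le_of_card_le hT (by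
            rw [card_rootsK]
            change _ ≤ T.card
            rw [hTc]
            simp [two_mul])
          show d j ∈ T.val
          rw [this]
          exact (hR _).2 ⟨j, rfl⟩
        obtain ⟨⟨e, hde⟩, -⟩ := hTm _ hall
        obtain ⟨k, hk, hyk⟩ := value_on_orbit hP hd hA hy isUnit_J (hform 4) (hform r) hR i0 e
        obtain rfl : k = j := hd (by rw [hk, hi0, hde])
        rw [hyk]
        obtain ⟨u, hu⟩ : Odd (expo q e) := by
          obtain ⟨f, -, hf⟩ := FiniteField.card F p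
          have hqo : Odd (q : ℤ) := by
            rw [hf, Nat.cast_pow]
            exact (((Fact.out : p.Prime).odd_of_ne_two hp2).natCast).pow
          rcases e with ⟨_ | _, m⟩ <;> simp [expo, hqo.pow]
        rw [hu, zpow_add₀ (show y i0 ≠ 0 from fun h0 => by simpa [h0] using hy2 i0), _root_.zpow_mul, zpow_one,
          show y i0 ^ (2 : ℤ) = 1 by exact_mod_cast hy2 i0, _root_.one_zpow, one_mul]
      have hscal : X.map (algebraMap F K) = y i0 • 1 := by
        apply hP.mul_right_cancel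
        rw [hy, smul_one_mul, show diagonal y = y i0 • (1 : Matrix (Fin n ⊕ Fin n) (Fin n ⊕ Fin n) K) by
          rw [← diagonal_one, ← diagonal_smul]
          congr 1
          funext j
          simp [hconst j], mul_smul_comm, mul_one]
      obtain ⟨c', hc', -⟩ := Roots57.scalar_of_map X hscal
      have h3 : (QuotientGroup.mk g : Cfsg.PSp n F) ^ r = 1 :=
        (SympOrders.mk_pow_eq_one_iff g r).2 ⟨c', by rw [← hG, ← hX, hc']⟩
      have := Nat.le_of_dvd hr.pos (hx ▸ orderOf_dvd_of_pow_eq_one h3)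
      have := hr.pos
      omega
    · rw [hc1, map_neg, map_one] at hy2
      have hy4 : orderOf (y i0) = 4 := by
        refine orderOf_eq_four ?_ ?_
        · rw [show 4 = 2 * 2 by rfl, pow_mul, hy2, neg_one_sq]
        · rw [hy2]
          intro h
          apply h2
          apply (algebraMap F K).injective
          rw [map_ofNat, map_zero]
          linear_combination -h
      exact hcon.2 (sameSign_of_value hP hd hA hy isUnit_J (hform 4) (hform r) hR i0 (r := r) (M := 4)
        (hi0 ▸ hlo) hr.pos hy4 (by norm_num) (he ▸ sgn_eta))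
  · rintro (h | h)
    · obtain ⟨m, rfl⟩ := Nat.exists_eq_add_of_le' (show 1 ≤ n by omega)
      obtain ⟨g, hg⟩ := exists_order_prime (F := F) hrp (show eta q r ≤ m by omega)
      exact two_sum (by omega) h2 g hg hrodd
    · have hc4 : r.Coprime 4 := (Nat.coprime_two_right.2 hrodd).pow_right 2
      obtain ⟨z, hz⟩ := exists_torus (F := F) (p := p) (N := r * 4) (b := n) (by omega) ((sgn_mul_iff hc4 _).2 h)
      set o := orderOf (QuotientGroup.mk z : Cfsg.PSp n F)
      obtain ⟨c, hc, hgc⟩ := scalar_of_mk_pow (by omega) (pow_orderOf_eq_one (QuotientGroup.mk z : Cfsg.PSp n F))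
      have h4 : z ^ (o * 2) = 1 := by
        apply Subtype.ext
        rw [pow_mul, SubmonoidClass.coe_pow, SubmonoidClass.coe_pow, hgc, _root_.smul_pow, sq, hc,
          one_pow, one_smul]
        rfl
      have h5 : 2 * r * 2 ∣ o * 2 := by
        rw [show 2 * r * 2 = r * 4 by ring]
        exact hz.trans (orderOf_dvd_of_pow_eq_one h4)
      exact exists_orderOf_eq (orderOf_pos _).ne' (Nat.dvd_of_mul_dvd_mul_right two_pos h5)

end CfsgLib.PrimeGraphBC
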