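import Cfsg.Agent.PrimeGraphBC.OrthAdj
import Cfsg.Agent.PrimeGraphBC.SympTwo

/-!
# `PΩ (2n+1, q)` and `PSp (2n, q)` have the same prime graph
-/

set_option autoImplicit false

namespace CfsgLib.PrimeGraphBC

open Matrix

variable {F : Type*} [Field F] [Fintype F]

local notation "q" => Fintype.card F

section

variable {p n : ℕ} [Fact p.Prime] [CharP F p]

theorem symp_eta_le {r m : ℕ} [Fact r.Prime] (hrp : r ≠ p)
    (hm : m ∈ Set.range (orderOf : Cfsg.PSp n F → ℕ)) (hd : r ∣ m) : eta q r ≤ n := by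
  obtain ⟨x, rfl⟩ := hm
  exact eta_le_of_dvd hrp (hd.trans (orderOf_dvd_natCard x))

theorem same_pair {r s : ℕ} [Fact r.Prime] [Fact s.Prime] (hp2 : p ≠ 2) (hn : 2 ≤ n) (hr2 : r ≠ 2)
    (hs2 : s ≠ 2) (hrp : r ≠ p) (hsp : s ≠ p) (hrs : r ≠ s) :
    r * s ∈ Set.range (orderOf : Cfsg.POmega F (Cfsg.quadFormOdd n F) → ℕ) ↔
      r * s ∈ Set.range (orderOf : Cfsg.PSp n F → ℕ) := by
  by_cases h : eta q r ≤ n ∧ eta q s ≤ n
  · rcases le_total (eta q r) (eta q s) with hle | hle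
    · rw [orth_pair_iff hp2 hn hr2 hs2 hrp hsp hrs h.2 hle, pair_iff (by omega) hr2 hs2 hrp hsp hrs h.2 hle]
    · rw [mul_comm r s, orth_pair_iff hp2 hn hs2 hr2 hsp hrp hrs.symm h.1 hle,
        pair_iff (by omega) hs2 hr2 hsp hrp hrs.symm h.1 hle]
  · refine iff_of_false (fun hm => h ⟨?_, ?_⟩) (fun hm => h ⟨?_, ?_⟩)
    · exact orth_eta_le hp2 hn hr2 hrp hm (dvd_mul_right r s)
    · exact orth_eta_le hp2 hn hs2 hsp hm (dvd_mul_left s r)
    · exact symp_eta_le hrp hm (dvd_mul_right r s)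
    · exact symp_eta_le hsp hm (dvd_mul_left s r)

theorem same_two {r : ℕ} [Fact r.Prime] (hp2 : p ≠ 2) (hn : 2 ≤ n) (hr2 : r ≠ 2) (hrp : r ≠ p) :
    2 * r ∈ Set.range (orderOf : Cfsg.POmega F (Cfsg.quadFormOdd n F) → ℕ) ↔
      2 * r ∈ Set.range (orderOf : Cfsg.PSp n F → ℕ) := by
  by_cases h : eta q r ≤ n
  · rw [orth_two_iff hp2 hn hr2 hrp h, two_iff hp2 hn hr2 hrp h]
  · exact iff_of_false (fun hm => h (orth_eta_le hp2 hn hr2 hrp hm (dvd_mul_left r 2)))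
      (fun hm => h (symp_eta_le hrp hm (dvd_mul_left r 2)))

/-- The prime graphs coincide. -/
theorem same_graph (hp2 : p ≠ 2) (hn : 2 ≤ n) {r s : ℕ} (hr : r.Prime) (hs : s.Prime) (hrs : r ≠ s) :
    r * s ∈ Set.range (orderOf : Cfsg.POmega F (Cfsg.quadFormOdd n F) → ℕ) ↔
      r * s ∈ Set.range (orderOf : Cfsg.PSp n F → ℕ) := by
  have main : ∀ r s : ℕ, r.Prime → s.Prime → r ≠ s → (r = 2 ∨ (r = p → False) ∧ (s = p ∨ s ≠ 2)) →
      (r * s ∈ Set.range (orderOf : Cfsg.POmega F (Cfsg.quadFormOdd n F) → ℕ) ↔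
        r * s ∈ Set.range (orderOf : Cfsg.PSp n F → ℕ)) := by
    intro r s hr hs hrs hcase
    haveI : Fact r.Prime := ⟨hr⟩
    haveI : Fact s.Prime := ⟨hs⟩
    by_cases hr2 : r = 2
    · subst hr2
      by_cases hsp : s = p
      · subst hsp
        exact iff_of_true (orth_two_char hp2 hn) (two_char_mem s hp2 hn)
      · exact same_two hp2 hn hrs.symm hsp
    obtain ⟨hrp, hs'⟩ := hcase.resolve_left hr2
    by_cases hsp : s = p
    · subst hsp
      rw [orth_char_iff hp2 hn hr2 hrp, char_iff (by omega) hr2 hrp]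
    · exact same_pair hp2 hn hr2 (hs'.resolve_left hsp) hrp hsp hrs
  by_cases h : r = 2 ∨ (r = p → False) ∧ (s = p ∨ s ≠ 2)
  · exact main r s hr hs hrs h
  · rw [mul_comm]
    refine main s r hs hr hrs.symm ?_
    by_cases hs2 : s = 2
    · exact Or.inl hs2
    · refine Or.inr ⟨fun e => h ?_, ?_⟩
      · refine Or.inr ⟨fun e' => hrs (e'.trans e.symm), Or.inl e⟩
      · exact Or.inr fun e => h (Or.inl e)

end

end CfsgLib.PrimeGraphBC
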